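import Groth.Agent.Ext49.Extend
import Groth.Agent.GerbLib.Twist
import Groth.Agent.GerbLib.Equiv
import Groth.Agent.IsoNatLib.BG
import Groth.Agent.QuotLib.TrivHom
import Groth.Agent.ArtinBoot49.Compare

/-!
# A neutral gerbe over the base is a classifying stack
-/

set_option autoImplicit false
set_option backward.isDefEq.respectTransparency false
set_option backward.isDefEq.respectTransparency.types false
set_option linter.unusedVariables false

universe u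

open CategoryTheory CategoryTheory.Functor CategoryTheory.Limits MonoidalCategory CartesianMonoidalCategory MonObj
  GrpObj AlgebraicGeometry AlgSp Groth.Agent.AlgStLib Groth.Agent.FibBase Groth.Agent.QuotLib Groth.Agent.GerbLib

namespace Groth.Agent.Ext49

variable {S : Scheme.{u}} {G : Over S} [GrpObj G]

local notation "K₀" => Scheme.fppfPrecoverage

/-- The classifying stack of an affine group is a gerbe. -/
theorem isGerbe_BG [IsAffineHom G.hom] : Gerb.IsGerbe (J S) (AlgSt.BG K₀ G) := by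
  have hst : Stk.IsStack (J S) (AlgSt.BG K₀ G) := ArtinBoot49.isStack_quotSt
  refine ⟨hst, fun T => ?_, fun A A' b hb => ?_⟩
  · refine ⟨⊤, (J S).top_mem _, fun V f _ => ?_⟩
    exact ⟨triv K₀ G (AlgSt.trivAction G) (toUnit V), f, IsHomLift.map (FibCat.selfOver (Over S)).p f⟩
  · obtain ⟨R, hR, hR'⟩ := IsoNatLib.bgChart_covers G A
    obtain ⟨R', hR₂, hR₂'⟩ := IsoNatLib.bgChart_covers G A'
    let k : A.base ⟶ A'.base := b
    refine ⟨R ⊓ R'.pullback k, (J S).intersection_covering hR ((J S).pullback_stable k hR₂), fun V f hf => ?_⟩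
    obtain ⟨g, φ, hφ⟩ := hR' f hf.1
    obtain ⟨g', φ', hφ'⟩ := hR₂' (f ≫ k) hf.2
    obtain rfl : g = g' := toUnit_unique _ _
    refine ⟨_, φ, φ', hφ, ?_, ?_⟩
    · have hid : (FibCat.selfOver (Over S)).p.IsHomLift (𝟙 A.base) b := hb
      have hAA : A.base = A'.base := (IsHomLift.codomain_eq (FibCat.selfOver (Over S)).p (𝟙 A.base) b).symm
      have hke : k = eqToHom hAA := (map_eq_of_isHomLift_id (p := (FibCat.selfOver (Over S)).p) hid).trans rfl
      have := hφ'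
      refine IsHomLift.of_fac' _ f φ' (IsHomLift.domain_eq (AlgSt.BG K₀ G).p (f ≫ k) φ') hAA.symm ?_
      rw [IsHomLift.fac' (AlgSt.BG K₀ G).p (f ≫ k) φ']
      simp [hke]
    · show φ.base ≫ b = φ'.base
      have h1 := IsHomLift.fac' (AlgSt.BG K₀ G).p f φ
      have h2 := IsHomLift.fac' (AlgSt.BG K₀ G).p (f ≫ k) φ'
      change φ.base = _ at h1
      change φ'.base = _ at h2
      rw [h1, h2]
      simp [k]

variable {𝒳 : AlgSt.Cat S} (x : FibCat.overCat (𝟙_ (Over S)) ⥤ᵇ 𝒳)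

/-- The value of the section over an object. -/
noncomputable abbrev pt (T : Over S) : 𝒳.obj := x.obj (Over.mk (toUnit T))

/-- The transition of the section. -/
noncomputable abbrev ptMap {T T' : Over S} (f : T ⟶ T') : pt x T ⟶ pt x T' :=
  x.map (Over.homMk f (toUnit_unique _ _) : Over.mk (toUnit T) ⟶ Over.mk (toUnit T'))

theorem pt_obj (T : Over S) : 𝒳.p.obj (pt x T) = T := x.w_obj _

theorem ptMap_map {T T' : Over S} (f : T ⟶ T') :
    𝒳.p.map (ptMap x f) = eqToHom (pt_obj x T) ≫ f ≫ eqToHom (pt_obj x T').symm :=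
  StkLib.w_map x _

theorem ptMap_comp {T T' T'' : Over S} (f : T ⟶ T') (g : T' ⟶ T'') :
    ptMap x f ≫ ptMap x g = ptMap x (f ≫ g) :=
  (x.toFunctor.map_comp _ _).symm.trans (congrArg x.map (Over.OverMorphism.ext rfl))

theorem ptMap_id (T : Over S) : ptMap x (𝟙 T) = 𝟙 _ :=
  (congrArg x.map (Over.OverMorphism.ext rfl)).trans (x.toFunctor.map_id _)

variable (hX : Stk.IsStack (J S) 𝒳)
  (E : ∀ T : Over S, (T ⟶ G) ≃* Gerb.AutO (pt x T))
  (hE : ∀ {T T' : Over S} (f : T ⟶ T') (g : T' ⟶ G),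
    (E T (f ≫ g)).hom.1 ≫ ptMap x f = ptMap x f ≫ (E T' g).hom.1)

/-- Objects with a map to the section. -/
abbrev Near : ObjectProperty 𝒳.obj := fun y => Nonempty (y ⟶ pt x (𝟙_ (Over S)))

include hX hE

/-- A neutral gerbe over the base is a classifying stack. -/
theorem exists_equiv_BG [IsAffineHom G.hom] (hcov : Dense (J S) (Near x)) :
    ∃ φ : 𝒳 ⥤ᵇ AlgSt.BG K₀ G, FibCat.IsEquivOver φ ∧
      Nonempty (φ.obj (pt x (𝟙_ (Over S))) ≅ triv K₀ G (AlgSt.trivAction G) (toUnit (𝟙_ (Over S)))) := by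
  let P := Near x
  have hst : Stk.IsStack (J S) (AlgSt.BG K₀ G) := ArtinBoot49.isStack_quotSt
  have hg := hX.1
  -- comparison with the section
  have hi : ∀ w : (sub P).obj, ∃ i : w.obj ⟶ pt x (𝒳.p.obj w.obj),
      𝒳.p.map i = eqToHom (pt_obj x _).symm := fun w => by
    obtain ⟨c⟩ := w.property
    obtain ⟨i, hi, -⟩ := exists_factor hg (ptMap x (toUnit (𝒳.p.obj w.obj))) c (eqToHom (pt_obj x _).symm) (by
      rw [← cancel_mono (eqToHom (pt_obj x (𝟙_ (Over S))))]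
      exact toUnit_unique _ _)
    exact ⟨i, hi⟩
  choose i him using hi
  have hiso : ∀ w, IsIso (i w) := fun w => by
    have : IsIso (𝒳.p.map (i w)) := by rw [him]; infer_instance
    exact isIso_of_map hg (i w)
  have him' : ∀ w : (sub P).obj, 𝒳.p.map (inv (i w)) = eqToHom (pt_obj x _) := fun w => by
    rw [Functor.map_inv]
    exact IsIso.inv_eq_of_hom_inv_id (by rw [him, eqToHom_trans, eqToHom_refl])
  -- the automorphism attached to a morphism
  have hα : ∀ (w' w : (sub P).obj) (n : w' ⟶ w), ∃ α : pt x (𝒳.p.obj w'.obj) ⟶ pt x (𝒳.p.obj w'.obj),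
      𝒳.p.map α = 𝟙 _ ∧ α ≫ ptMap x (𝒳.p.map n.hom) = inv (i w') ≫ n.hom ≫ i w := fun w' w n => by
    refine exists_factor hg _ _ _ ?_
    rw [Category.id_comp, ptMap_map, Functor.map_comp, Functor.map_comp, him, him']
  choose α hαm hαe using hα
  let b : ∀ (w' w : (sub P).obj) (n : w' ⟶ w), 𝒳.p.obj w'.obj ⟶ G := fun w' w n =>
    (E _).symm (autOMk hg (α w' w n) (hαm w' w n))
  have hbα : ∀ (w' w : (sub P).obj) (n : w' ⟶ w), (E _ (b w' w n)).hom.1 = α w' w n := fun w' w n => by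
    simp only [b, MulEquiv.apply_symm_apply]
    rfl
  have hbu : ∀ (w' w : (sub P).obj) (n : w' ⟶ w) (c : 𝒳.p.obj w'.obj ⟶ G),
      (E _ c).hom.1 ≫ ptMap x (𝒳.p.map n.hom) = inv (i w') ≫ n.hom ≫ i w → b w' w n = c := fun w' w n c hc => by
    refine (E _).injective (Aut.ext (Functor.Fiber.hom_ext ?_))
    refine hom_ext_cart hg (ptMap x (𝒳.p.map n.hom)) ?_ ?_
    · show 𝒳.p.map (E _ (b w' w n)).hom.1 = 𝒳.p.map (E _ c).hom.1
      rw [autO_map, autO_map]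
    · show (E _ (b w' w n)).hom.1 ≫ _ = (E _ c).hom.1 ≫ _
      rw [hc, hbα, hαe]
  let g : ∀ (w' w : (sub P).obj) (n : w' ⟶ w), 𝒳.p.obj w'.obj ⟶ G := fun w' w n => (b w' w n)⁻¹
  have hg1 : ∀ w : (sub P).obj, g w w (𝟙 w) = 1 := fun w => by
    have : b w w (𝟙 w) = 1 := hbu w w (𝟙 w) 1 (by
      rw [map_one, show 𝒳.p.map (𝟙 w : w ⟶ w).hom = 𝟙 _ from 𝒳.p.map_id _, ptMap_id]
      show 𝟙 _ ≫ 𝟙 _ = inv (i w) ≫ 𝟙 _ ≫ i w
      simp)
    simp [g, this]
  have hgm : ∀ (w'' w' w : (sub P).obj) (m : w'' ⟶ w') (n : w' ⟶ w),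
      g w'' w (m ≫ n) = g w'' w' m * (𝒳.p.map m.hom ≫ g w' w n) := fun w'' w' w m n => by
    have : b w'' w (m ≫ n) = (𝒳.p.map m.hom ≫ b w' w n) * b w'' w' m := hbu w'' w (m ≫ n) _ (by
      rw [map_mul, show 𝒳.p.map (m ≫ n).hom = 𝒳.p.map m.hom ≫ 𝒳.p.map n.hom from 𝒳.p.map_comp _ _,
        ← ptMap_comp]
      show ((E _ (b w'' w' m)).hom.1 ≫ (E _ (𝒳.p.map m.hom ≫ b w' w n)).hom.1) ≫ ptMap x _ ≫ ptMap x _ =
        inv (i w'') ≫ (m.hom ≫ n.hom) ≫ i w
      rw [Category.assoc, reassoc_of% (hE (𝒳.p.map m.hom) (b w' w n)), ← Category.assoc, hbα, hαe, hbα, hαe]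
      simp)
    simp only [g, this, _root_.mul_inv_rev, GrpObj.comp_inv]
  -- the functor on objects near the section
  let τ : ∀ (w' w : (sub P).obj) (n : w' ⟶ w),
      triv K₀ G (AlgSt.trivAction G) (toUnit (𝒳.p.obj w'.obj)) ⟶
        triv K₀ G (AlgSt.trivAction G) (toUnit (𝒳.p.obj w.obj)) := fun w' w n =>
    trivHom _ (lift (g w' w n) (𝒳.p.map n.hom)) _ (toUnit_unique _ _)
  have hτb : ∀ (w' w : (sub P).obj) (n : w' ⟶ w), (τ w' w n).base = 𝒳.p.map n.hom := fun w' w n => lift_snd _ _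
  have hτs : ∀ (w' w : (sub P).obj) (n : w' ⟶ w),
      sec G _ ≫ (τ w' w n).top = lift (g w' w n) (𝒳.p.map n.hom) := fun w' w n => trivHom_sec _ _ _ _
  let ψ₀ : (sub P).obj ⥤ (AlgSt.BG K₀ G).obj :=
    { obj := fun w => triv K₀ G (AlgSt.trivAction G) (toUnit (𝒳.p.obj w.obj))
      map := fun {w' w} n => τ w' w n
      map_id := fun w => by
        refine hom_ext_sec ?_
        show sec G _ ≫ (τ w w (𝟙 w)).top = sec G _ ≫ 𝟙 _
        rw [hτs, hg1, Category.comp_id, show 𝒳.p.map (𝟙 w : w ⟶ w).hom = 𝟙 _ from 𝒳.p.map_id _]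
        rfl
      map_comp := fun {w'' w' w} m n => by
        refine hom_ext_sec ?_
        show sec G _ ≫ (τ w'' w (m ≫ n)).top = sec G _ ≫ (τ w'' w' m).top ≫ (τ w' w n).top
        rw [← Category.assoc, hτs, hτs, show (τ w' w n).top =
          lift (fst G _ * (snd G _ ≫ g w' w n)) (snd G _ ≫ 𝒳.p.map n.hom) from whisker_lift_leftMul _ _, hgm]
        rw [show 𝒳.p.map (m ≫ n).hom = 𝒳.p.map m.hom ≫ 𝒳.p.map n.hom from 𝒳.p.map_comp _ _]
        simp [comp_lift, comp_mul] }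
  let ψ : sub P ⥤ᵇ AlgSt.BG K₀ G :=
    { toFunctor := ψ₀
      w := CategoryTheory.Functor.ext (fun w => rfl) fun w' w n => by
        simp only [eqToHom_refl, Category.comp_id, Category.id_comp]
        exact hτb w' w n }
  have hP : ∀ {y' y : 𝒳.obj} (_ : y' ⟶ y), P y → P y' := fun m ⟨c⟩ => ⟨m ≫ c⟩
  obtain ⟨φ, θ, hθ, hθn⟩ := exists_extension hg hst (fun {_ _} m => hP m) hcov ψ
  have hgerbe : Gerb.IsGerbe (J S) 𝒳 := by
    refine ⟨hX, fun T => ⟨⊤, (J S).top_mem _, fun V f _ => ⟨pt x V, eqToHom (pt_obj x _) ≫ f, ?_⟩⟩,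
      fun y y' c hc => ?_⟩
    · exact IsHomLift.of_fac' _ f _ (pt_obj x V) rfl (by
        show eqToHom _ ≫ f = eqToHom _ ≫ f ≫ eqToHom _
        exact (congrArg (eqToHom _ ≫ ·) (Category.comp_id f)).symm)
    · obtain ⟨R, hR, hR'⟩ := hcov y
      obtain ⟨R', hR₂, hR₂'⟩ := hcov y'
      let k : 𝒳.p.obj y ⟶ 𝒳.p.obj y' := c
      have hke : ∃ e : 𝒳.p.obj y' = 𝒳.p.obj y, k = eqToHom e.symm := by
        have hid : (FibCat.selfOver (Over S)).p.IsHomLift (𝟙 (𝒳.p.obj y)) c := hc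
        refine ⟨IsHomLift.codomain_eq (FibCat.selfOver (Over S)).p (𝟙 (𝒳.p.obj y)) c, ?_⟩
        exact (map_eq_of_isHomLift_id (p := (FibCat.selfOver (Over S)).p) hid).trans rfl
      obtain ⟨e, hke⟩ := hke
      refine ⟨R ⊓ R'.pullback k, (J S).intersection_covering hR ((J S).pullback_stable k hR₂), fun V f hf => ?_⟩
      obtain ⟨y₁, a, ha, ⟨c₁⟩⟩ := hR' f hf.1
      obtain ⟨y₂, a', ha', ⟨c₂⟩⟩ := hR₂' (f ≫ k) hf.2
      obtain ⟨j, hj, -⟩ := exists_factor hg c₂ c₁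
        (eqToHom ((IsHomLift.domain_eq 𝒳.p f a).trans (IsHomLift.domain_eq 𝒳.p (f ≫ k) a').symm)) (by
          rw [← cancel_mono (eqToHom (pt_obj x (𝟙_ (Over S))))]
          exact toUnit_unique _ _)
      have hmap : 𝒳.p.map (j ≫ a') = eqToHom (IsHomLift.domain_eq 𝒳.p f a) ≫ f ≫ eqToHom e.symm := by
        rw [Functor.map_comp, hj, IsHomLift.fac' 𝒳.p (f ≫ k) a']; simp [hke]
      refine ⟨y₁, a, j ≫ a', ha, IsHomLift.of_fac' _ f _ (IsHomLift.domain_eq 𝒳.p f a) e hmap, ?_⟩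
      show 𝒳.p.map a ≫ c = 𝒳.p.map (j ≫ a')
      rw [hmap, IsHomLift.fac' 𝒳.p f a, show c = eqToHom e.symm from hke]
      simp
  refine ⟨φ, isEquivOver_of_autMap hgerbe isGerbe_BG φ (pt x (𝟙_ (Over S)))
    (isTerminalTensorUnit.ofIso (eqToIso (pt_obj x _).symm)) fun y c => ?_,
    ⟨θ ⟨pt x _, ⟨𝟙 _⟩⟩ ≪≫ eqToIso (congrArg (fun T => triv K₀ G (AlgSt.trivAction G) (toUnit T)) (pt_obj x _))⟩⟩
  let w : (sub P).obj := ⟨y, ⟨c⟩⟩
  have key : ∀ a : Gerb.AutO y, φ.map a.hom.1 ≫ (θ w).hom =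
      (θ w).hom ≫ τ w w (ObjectProperty.homMk a.hom.1) := fun a => hθn w w (ObjectProperty.homMk a.hom.1)
  refine ⟨fun a a' h => ?_, fun β => ?_⟩
  · have h1 : φ.map a.hom.1 = φ.map a'.hom.1 := congrArg (fun t : Gerb.AutO (φ.obj y) => t.hom.1) h
    have h2 : τ w w (ObjectProperty.homMk a.hom.1) = τ w w (ObjectProperty.homMk a'.hom.1) := by
      rw [← cancel_epi (θ w).hom, ← key, ← key, h1]
    have h3 := congrArg (fun t => sec G _ ≫ AlgSt.QuotObj.Hom.top t) h2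
    simp only [hτs] at h3
    have h4 : g w w (ObjectProperty.homMk a.hom.1) = g w w (ObjectProperty.homMk a'.hom.1) := by
      simpa using congrArg (· ≫ fst G _) h3
    have h5 : b w w (ObjectProperty.homMk a.hom.1) = b w w (ObjectProperty.homMk a'.hom.1) := inv_injective h4
    have h6 := congrArg (fun t => (E _ t).hom.1) h5
    simp only [hbα] at h6
    have h7 := hαe w w (ObjectProperty.homMk a.hom.1)
    rw [h6, show 𝒳.p.map (ObjectProperty.homMk a.hom.1 : w ⟶ w).hom = 𝒳.p.map (ObjectProperty.homMk a'.hom.1 : w ⟶ w).hom from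
      (autO_map y a).trans (autO_map y a').symm, hαe w w (ObjectProperty.homMk a'.hom.1)] at h7
    simp only [cancel_epi, cancel_mono] at h7
    exact Aut.ext (Functor.Fiber.hom_ext h7.symm)
  · let β' : ψ.obj w ⟶ ψ.obj w := (θ w).inv ≫ β.hom.1 ≫ (θ w).hom
    have hβ' : β'.base = 𝟙 (𝒳.p.obj y) := by
      have h0 := hθ w
      have h1 : (AlgSt.BG K₀ G).p.IsHomLift (𝟙 (𝒳.p.obj y)) (θ w).inv :=
        IsHomLift.lift_id_inv (AlgSt.BG K₀ G).p (𝒳.p.obj y) (θ w)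
      have h2 : (AlgSt.BG K₀ G).p.IsHomLift (𝟙 (𝒳.p.obj y)) β.hom.1 := isHomLift_id_congr (φ.w_obj y) β.hom.2
      have : (AlgSt.BG K₀ G).p.IsHomLift (𝟙 (𝒳.p.obj y)) β' := inferInstance
      exact (map_eq_of_isHomLift_id (p := (AlgSt.BG K₀ G).p) this).trans rfl
    obtain ⟨h₀, -, htop⟩ := (hom_triv_iff (K := K₀) (G := G) (aX := AlgSt.trivAction G) (𝟙 (𝒳.p.obj y))
      (toUnit _) (toUnit _)).1 β' hβ'
    let a₀ : y ⟶ y := i w ≫ (E _ h₀⁻¹).hom.1 ≫ inv (i w)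
    have ha₀ : 𝒳.p.map a₀ = 𝟙 _ := by
      simp only [a₀, Functor.map_comp, him, autO_map]
      rw [him']
      erw [Category.id_comp]
      exact eqToHom_trans _ _
    refine ⟨autOMk hg a₀ ha₀, Aut.ext (Functor.Fiber.hom_ext ?_)⟩
    show φ.map a₀ = β.hom.1
    suffices hτ : τ w w (ObjectProperty.homMk a₀) = β' by
      refine (cancel_mono (θ w).hom).1 ((hθn w w (ObjectProperty.homMk a₀)).trans ?_)
      show (θ w).hom ≫ τ w w (ObjectProperty.homMk a₀) = β.hom.1 ≫ (θ w).hom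
      rw [hτ]
      exact Iso.hom_inv_id_assoc (θ w) _
    refine hom_ext_sec ?_
    show sec G _ ≫ (τ w w (ObjectProperty.homMk a₀)).top = sec G _ ≫ β'.top
    rw [hτs, htop]
    have hb0 : b w w (ObjectProperty.homMk a₀) = h₀⁻¹ := hbu w w _ _ (by
      show _ ≫ ptMap x (𝒳.p.map a₀) = inv (i w) ≫ (i w ≫ (E _ h₀⁻¹).hom.1 ≫ inv (i w)) ≫ i w
      rw [ha₀, ptMap_id]
      simp
      rfl)
    show lift (b w w (ObjectProperty.homMk a₀))⁻¹ (𝒳.p.map a₀) = _
    rw [hb0, ha₀, _root_.inv_inv]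
    show _ = lift (1 : 𝒳.p.obj y ⟶ G) (𝟙 (𝒳.p.obj y)) ≫ lift (fst G _ * (snd G _ ≫ h₀)) (snd G _ ≫ 𝟙 _)
    rw [comp_lift, comp_mul]
    simp

/-- The group of the section from an automorphism representation. -/
theorem isQuotientOf_of_neutral [IsAffineHom G.hom] (hcov : Dense (J S) (Near x)) :
    AlgSt.IsQuotientOf K₀ G (AlgSt.trivAction G) 𝒳 := by
  obtain ⟨φ, hφ, -⟩ := exists_equiv_BG x hX E hE hcov
  exact isEquivOver_symm hφ

end Groth.Agent.Ext49
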