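import Groth.Agent.Ext49.Extend

/-!
# Equivalences detected on locally dense full subcategories
-/

set_option autoImplicit false
set_option backward.isDefEq.respectTransparency false
set_option backward.isDefEq.respectTransparency.types false
set_option linter.unusedVariables false

universe v₃ u₃ v₂ u₂ v u

open CategoryTheory CategoryTheory.Functor Groth.Agent.FibBase Groth.Agent.GerbLib

namespace Groth.Agent.Ext49

variable {C : Type u} [Category.{v} C] {J : GrothendieckTopology C}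
  {𝒳 : BasedCategory.{v₂, u₂} C} {𝒴 : BasedCategory.{v₃, u₃} C} {P : ObjectProperty 𝒳.obj}

/-- Functors to a stack agreeing on a locally dense full subcategory are isomorphic. -/
theorem nonempty_iso_of_dense (hX : FibCat.IsFibGrpd 𝒳.p) (hY : Stk.IsStack J 𝒴)
    (hP : ∀ {y' y : 𝒳.obj} (_ : y' ⟶ y), P y → P y') (hcov : Dense J P) (F G : 𝒳 ⥤ᵇ 𝒴)
    (θ : ∀ w : (sub P).obj, F.obj w.obj ≅ G.obj w.obj)
    (hθ : ∀ w, 𝒴.p.IsHomLift (𝟙 (𝒳.p.obj w.obj)) (θ w).hom)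
    (hn : ∀ (w' w : (sub P).obj) (n : w' ⟶ w), F.map n.hom ≫ (θ w).hom = (θ w').hom ≫ G.map n.hom) :
    Nonempty (F ≅ G) := by
  let ψ : sub P ⥤ᵇ 𝒴 :=
    { toFunctor := ObjectProperty.ι P ⋙ F.toFunctor
      w := by
        show ObjectProperty.ι P ⋙ (F.toFunctor ⋙ 𝒴.p) = _
        rw [F.w]
        rfl }
  let v : ∀ y, Val ψ y := fun y =>
    { q := F.obj y
      hq := F.w_obj y
      c := fun w l => F.map l
      hc := fun w l => StkLib.w_map F l
      nat := fun w' w n l => (F.toFunctor.map_comp _ _).symm }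
  let v' : ∀ y, Val ψ y := fun y =>
    { q := G.obj y
      hq := G.w_obj y
      c := fun w l => (θ w).hom ≫ G.map l
      hc := fun w l => by
        have := hθ w
        rw [Functor.map_comp, StkLib.w_map G l, IsHomLift.fac' 𝒴.p (𝟙 (𝒳.p.obj w.obj)) (θ w).hom]
        simp
      nat := fun w' w n l => by
        show F.map n.hom ≫ (θ w).hom ≫ G.map l = (θ w').hom ≫ G.map (n.hom ≫ l)
        rw [← Category.assoc, hn, Category.assoc, G.toFunctor.map_comp] }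
  choose φ hφm hφ using fun y => exists_val_hom hX hY (fun {_ _} m => hP m) hcov ψ (v y) (v' y) (𝟙 y)
  have hlift : ∀ y, 𝒴.p.IsHomLift (𝟙 (𝒳.p.obj y)) (φ y) := fun y =>
    IsHomLift.of_fac' _ _ _ (F.w_obj y) (G.w_obj y) (by rw [hφm, 𝒳.p.map_id])
  let α : F ⟶ G :=
    { toNatTrans :=
        { app := φ
          naturality := fun a b m => val_hom_ext hX hY hcov ψ (v a) _ _
            (by
              show 𝒴.p.map (F.map m ≫ φ b) = 𝒴.p.map (φ a ≫ G.map m)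
              rw [Functor.map_comp, Functor.map_comp, hφm, hφm, StkLib.w_map F m, StkLib.w_map G m]
              simp [v, v'])
            fun w l => by
              show F.map l ≫ F.map m ≫ φ b = F.map l ≫ φ a ≫ G.map m
              have h1 := hφ b w (l ≫ m)
              have h2 := hφ a w l
              simp only [v, v', Category.comp_id] at h1 h2
              rw [← Category.assoc, ← F.toFunctor.map_comp, h1, reassoc_of% h2, G.toFunctor.map_comp] }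
      isHomLift' := hlift }
  have : IsIso α := StkLib.hom_isIso hY.1 α
  exact ⟨asIso α⟩

/-- A functor between stacks which is fully faithful on a locally dense full subcategory with locally dense
image is an equivalence. -/
theorem isEquivOver_of_dense (hX : Stk.IsStack J 𝒳) (hY : Stk.IsStack J 𝒴)
    (hP : ∀ {y' y : 𝒳.obj} (_ : y' ⟶ y), P y → P y') (hcov : Dense J P) (φ : 𝒳 ⥤ᵇ 𝒴)
    (hinj : ∀ {a b : 𝒳.obj}, P a → P b → ∀ m m' : a ⟶ b, φ.map m = φ.map m' → m = m')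
    (hsurj : ∀ {a b : 𝒳.obj}, P a → P b → ∀ g : φ.obj a ⟶ φ.obj b, ∃ m : a ⟶ b, φ.map m = g)
    (hcov' : Dense J (fun y => ∃ a, P a ∧ Nonempty (y ⟶ φ.obj a))) : FibCat.IsEquivOver φ := by
  let P' : ObjectProperty 𝒴.obj := fun y => ∃ a, P a ∧ Nonempty (y ⟶ φ.obj a)
  have hP' : ∀ {y' y : 𝒴.obj} (_ : y' ⟶ y), P' y → P' y' := fun n ⟨a, ha, ⟨c⟩⟩ => ⟨a, ha, ⟨n ≫ c⟩⟩
  have key : ∀ y : (sub P').obj, ∃ (w : 𝒳.obj) (i : φ.obj w ≅ y.obj), P w ∧ 𝒳.p.obj w = 𝒴.p.obj y.obj ∧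
      𝒴.p.IsHomLift (𝟙 (𝒴.p.obj y.obj)) i.hom := fun y => by
    obtain ⟨a, ha, ⟨c⟩⟩ := y.property
    obtain ⟨w, m, hm⟩ := exists_lift_of_eq hX.1 (rfl : 𝒳.p.obj a = _) (𝒴.p.map c ≫ eqToHom (φ.w_obj a))
    have hw : 𝒳.p.obj w = 𝒴.p.obj y.obj := IsHomLift.domain_eq 𝒳.p (𝒴.p.map c ≫ eqToHom (φ.w_obj a)) m
    have h1 : 𝒴.p.IsHomLift (𝒴.p.map c ≫ eqToHom (φ.w_obj a)) (φ.map m) := φ.preserves_isHomLift _ m
    have h2 : 𝒴.p.IsHomLift (𝒴.p.map c ≫ eqToHom (φ.w_obj a)) c :=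
      IsHomLift.of_fac' _ _ c rfl (φ.w_obj a) (by simp)
    obtain ⟨i, hi, -⟩ := exists_iso_of_lifts (hp := hY.1) (𝒴.p.map c ≫ eqToHom (φ.w_obj a)) (φ.map m) c
    exact ⟨w, i.symm, hP m ha, hw, IsHomLift.lift_id_inv 𝒴.p (𝒴.p.obj y.obj) i⟩
  choose w i hw hwb hi using key
  choose mor hmor using fun (y' y : (sub P').obj) (n : y' ⟶ y) =>
    hsurj (hw y') (hw y) ((i y').hom ≫ n.hom ≫ (i y).inv)
  let ψ₀ : (sub P').obj ⥤ 𝒳.obj :=
    { obj := w
      map := fun {y' y} n => mor y' y n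
      map_id := fun y => hinj (hw y) (hw y) _ _ (by
        rw [hmor, φ.toFunctor.map_id]
        show (i y).hom ≫ 𝟙 y.obj ≫ (i y).inv = _
        simp)
      map_comp := fun {a b c} m n => hinj (hw a) (hw c) _ _ (by
        rw [hmor, φ.toFunctor.map_comp, hmor, hmor]
        show (i a).hom ≫ (m.hom ≫ n.hom) ≫ (i c).inv = _
        simp) }
  have hψ : ∀ (y' y : (sub P').obj) (n : y' ⟶ y),
      𝒳.p.map (mor y' y n) = eqToHom (hwb y') ≫ 𝒴.p.map n.hom ≫ eqToHom (hwb y).symm := fun y' y n => by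
    have h1 := congrArg 𝒴.p.map (hmor y' y n)
    have := hi y; have := hi y'
    have h2 : 𝒴.p.IsHomLift (𝟙 (𝒴.p.obj y.obj)) (i y).inv := IsHomLift.lift_id_inv 𝒴.p (𝒴.p.obj y.obj) (i y)
    rw [StkLib.w_map φ, Functor.map_comp, Functor.map_comp,
      IsHomLift.fac' 𝒴.p (𝟙 (𝒴.p.obj y'.obj)) (i y').hom,
      IsHomLift.fac' 𝒴.p (𝟙 (𝒴.p.obj y.obj)) (i y).inv] at h1
    rw [← cancel_epi (eqToHom (φ.w_obj (w y'))), ← cancel_mono (eqToHom (φ.w_obj (w y)).symm), Category.assoc, h1]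
    simp
  let ψ : sub P' ⥤ᵇ 𝒳 :=
    { toFunctor := ψ₀
      w := CategoryTheory.Functor.ext hwb hψ }
  obtain ⟨χ, η, hη, hηn⟩ := exists_extension hY.1 hX (fun {_ _} m => hP' m) hcov' ψ
  obtain ⟨e₁⟩ : Nonempty (BasedFunctor.comp χ φ ≅ BasedFunctor.id 𝒴) := by
    refine nonempty_iso_of_dense hY.1 hY (fun {_ _} m => hP' m) hcov' _ _
      (fun y => φ.toFunctor.mapIso (η y) ≪≫ i y) (fun y => ?_) fun y' y n => ?_
    · have := hη y; have := hi y
      have : 𝒴.p.IsHomLift (𝟙 (𝒴.p.obj y.obj)) (φ.map (η y).hom) := φ.preserves_isHomLift _ _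
      show 𝒴.p.IsHomLift (𝟙 (𝒴.p.obj y.obj)) (φ.map (η y).hom ≫ (i y).hom)
      infer_instance
    · show φ.map (χ.map n.hom) ≫ φ.map (η y).hom ≫ (i y).hom = (φ.map (η y').hom ≫ (i y').hom) ≫ n.hom
      rw [← Category.assoc, ← φ.toFunctor.map_comp, hηn, φ.toFunctor.map_comp, Category.assoc]
      show φ.map (η y').hom ≫ φ.map (mor y' y n) ≫ (i y).hom = _
      rw [hmor]
      simp
  let toP' : ∀ a : (sub P).obj, (sub P').obj := fun a => ⟨φ.obj a.obj, a.obj, a.property, ⟨𝟙 _⟩⟩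
  choose pre hpre using fun a : (sub P).obj => hsurj (hw (toP' a)) a.property (i (toP' a)).hom
  have hpreiso : ∀ a, IsIso (pre a) ∧ 𝒳.p.IsHomLift (𝟙 (𝒳.p.obj a.obj)) (pre a) := fun a => by
    have h1 := congrArg 𝒴.p.map (hpre a)
    have := hi (toP' a)
    rw [StkLib.w_map φ, IsHomLift.fac' 𝒴.p (𝟙 (𝒴.p.obj (toP' a).obj)) (i (toP' a)).hom] at h1
    have h2 : 𝒳.p.map (pre a) = eqToHom ((hwb (toP' a)).trans (φ.w_obj a.obj)) := by
      rw [← cancel_epi (eqToHom (φ.w_obj (w (toP' a)))), ← cancel_mono (eqToHom (φ.w_obj a.obj).symm),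
        Category.assoc, h1]
      simp
    have h3 : 𝒳.p.IsHomLift (𝟙 (𝒳.p.obj a.obj)) (pre a) :=
      IsHomLift.of_fac' _ _ _ ((hwb (toP' a)).trans (φ.w_obj a.obj)) rfl (by rw [h2]; simp)
    exact ⟨isIso_of_lift (hp := hX.1) (𝟙 (𝒳.p.obj a.obj)) (pre a), h3⟩
  obtain ⟨e₂⟩ : Nonempty (BasedFunctor.comp φ χ ≅ BasedFunctor.id 𝒳) := by
    refine nonempty_iso_of_dense hX.1 hX (fun {_ _} m => hP m) hcov _ _
      (fun a => η (toP' a) ≪≫ (haveI := (hpreiso a).1; asIso (pre a))) (fun a => ?_) fun a' a n => ?_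
    · have := (hpreiso a).2
      have h0 : 𝒳.p.IsHomLift (𝟙 (𝒴.p.obj (toP' a).obj)) (η (toP' a)).hom := hη (toP' a)
      have : 𝒳.p.IsHomLift (𝟙 (𝒳.p.obj a.obj)) (η (toP' a)).hom := isHomLift_id_congr (φ.w_obj a.obj) h0
      show 𝒳.p.IsHomLift (𝟙 (𝒳.p.obj a.obj)) ((η (toP' a)).hom ≫ pre a)
      infer_instance
    · show χ.map (φ.map n.hom) ≫ (η (toP' a)).hom ≫ pre a = ((η (toP' a')).hom ≫ pre a') ≫ n.hom
      have h1 := hηn (toP' a') (toP' a) (ObjectProperty.homMk (φ.map n.hom))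
      rw [← Category.assoc, show χ.map (φ.map n.hom) ≫ (η (toP' a)).hom = _ from h1, Category.assoc, Category.assoc]
      congr 1
      refine hinj (hw _) a.property _ _ ?_
      rw [φ.toFunctor.map_comp, φ.toFunctor.map_comp, hpre, hpre]
      show φ.map (mor _ _ _) ≫ _ = _
      rw [hmor]
      simp
  exact ⟨χ, ⟨e₂⟩, ⟨e₁⟩⟩

end Groth.Agent.Ext49
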