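import Groth.Agent.GerbLib.Glue
import Groth.Agent.StkLib.Sieves
import Groth.Agent.StkLib.Refine

/-!
# Functors to stacks extend from locally dense full subcategories
-/

set_option autoImplicit false
set_option backward.isDefEq.respectTransparency false
set_option backward.isDefEq.respectTransparency.types false
set_option linter.unusedVariables false

universe v₃ u₃ v₂ u₂ v u

open CategoryTheory CategoryTheory.Functor
open Groth.Agent.FibBase Groth.Agent.StkLib Groth.Agent.GerbLib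

namespace Groth.Agent.Ext49

variable {C : Type u} [Category.{v} C] {J : GrothendieckTopology C}
  {𝒳 : BasedCategory.{v₂, u₂} C} {𝒴 : BasedCategory.{v₃, u₃} C}

/-- A full subcategory as a category over the base. -/
abbrev sub (P : ObjectProperty 𝒳.obj) : BasedCategory.{v₂, u₂} C := .ofFunctor (P.ι ⋙ 𝒳.p)

/-- Objects in `P` cover every object. -/
def Dense (J : GrothendieckTopology C) (P : ObjectProperty 𝒳.obj) : Prop :=
  ∀ y, ∃ R ∈ J (𝒳.p.obj y), ∀ ⦃V : C⦄ (f : V ⟶ 𝒳.p.obj y), R f →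
    ∃ (w : 𝒳.obj) (a : w ⟶ y), 𝒳.p.IsHomLift f a ∧ P w

variable {P : ObjectProperty 𝒳.obj}

/-- The value at an object: a cone over the objects in `P` mapping to it. -/
structure Val (ψ : sub P ⥤ᵇ 𝒴) (y : 𝒳.obj) where
  q : 𝒴.obj
  hq : 𝒴.p.obj q = 𝒳.p.obj y
  c : ∀ w : (sub P).obj, (w.obj ⟶ y) → (ψ.obj w ⟶ q)
  hc : ∀ (w : (sub P).obj) (l : w.obj ⟶ y),
    𝒴.p.map (c w l) = eqToHom (ψ.w_obj w) ≫ 𝒳.p.map l ≫ eqToHom hq.symm
  nat : ∀ (w' w : (sub P).obj) (n : w' ⟶ w) (l : w.obj ⟶ y), ψ.map n ≫ c w l = c w' (n.hom ≫ l)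

theorem ov_map {U : C} {a b : Over U} (g : a ⟶ b) : (FibCat.overCat U).p.map g = g.left := rfl

theorem sub_map {a b : (sub P).obj} (g : a ⟶ b) : (sub P).p.map g = 𝒳.p.map g.hom := rfl

variable (hX : FibCat.IsFibGrpd 𝒳.p) (hY : Stk.IsStack J 𝒴)
  (hP : ∀ {y' y : 𝒳.obj} (_ : y' ⟶ y), P y → P y') (hcov : Dense J P) (ψ : sub P ⥤ᵇ 𝒴)

include hX hY hP hcov

theorem nonempty_val (y : 𝒳.obj) : Nonempty (Val ψ y) := by
  let U := 𝒳.p.obj y
  obtain ⟨R₀, hR₀, hR₀'⟩ := hcov y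
  let R : Sieve U :=
    { arrows := fun V f => ∃ (w : 𝒳.obj) (a : w ⟶ y), 𝒳.p.IsHomLift f a ∧ P w
      downward_closed := by
        rintro V W f ⟨w, a, ha, hw⟩ k
        obtain ⟨w', m, hm⟩ := exists_lift_of_eq hX (IsHomLift.domain_eq 𝒳.p f a) k
        exact ⟨w', m ≫ a, inferInstance, hP m hw⟩ }
  have hR : R ∈ J U := J.superset_covering (fun V f hf => hR₀' f hf) hR₀
  obtain ⟨G, e, he⟩ := exists_ofObj hX y (rfl : 𝒳.p.obj y = U)
  have hGP : ∀ a : (Stk.sieveCat R).obj, P (G.obj a.obj) := fun a => by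
    obtain ⟨w, b, hb, hw⟩ := a.property
    obtain ⟨i, -⟩ := exists_iso_at hX G a.obj e.hom he b hb
    exact hP i.inv hw
  let GR : Stk.sieveCat R ⥤ᵇ sub P :=
    { toFunctor := P.lift (ObjectProperty.ι _ ⋙ G.toFunctor) hGP
      w := by
        show ObjectProperty.ι _ ⋙ (G.toFunctor ⋙ 𝒳.p) = _
        rw [G.w]
        rfl }
  have : (Stk.resSieve R 𝒴).IsEquivalence := hY.2 R hR
  let F := (Stk.resSieve R 𝒴).objPreimage (BasedFunctor.comp GR ψ)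
  let η : BasedFunctor.comp GR ψ ≅ BasedFunctor.comp (Stk.sieveIncl R) F :=
    ((Stk.resSieve R 𝒴).objObjPreimageIso (BasedFunctor.comp GR ψ)).symm
  have hmem : ∀ (w : (sub P).obj) (l : w.obj ⟶ y), R (𝒳.p.map l) := fun w l =>
    ⟨w.obj, l, inferInstance, w.property⟩
  have hi : ∀ (w : (sub P).obj) (l : w.obj ⟶ y), ∃ i : w.obj ⟶ G.obj (Over.mk (𝒳.p.map l)),
      𝒳.p.map i = eqToHom (G.w_obj (Over.mk (𝒳.p.map l))).symm ∧
        i ≫ G.map (toId (Over.mk (𝒳.p.map l))) ≫ e.hom = l := fun w l => by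
    refine exists_factor hX _ l _ ?_
    rw [Functor.map_comp, Groth.Agent.StkLib.w_map, map_eq_of_isHomLift_id he]
    simp [toId, ov_map]
  choose i him hie using hi
  let c : ∀ w : (sub P).obj, (w.obj ⟶ y) → (ψ.obj w ⟶ F.obj (Over.mk (𝟙 U))) := fun w l =>
    ψ.map (ObjectProperty.homMk (i w l) : w ⟶ GR.obj (sob _ (hmem w l))) ≫
      η.hom.toNatTrans.app (sob _ (hmem w l)) ≫ F.map (toId (Over.mk (𝒳.p.map l)))
  refine ⟨⟨F.obj (Over.mk (𝟙 U)), F.w_obj _, c, fun w l => ?_, fun w' w n l => ?_⟩⟩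
  · have hη : 𝒴.p.IsHomLift (𝟙 (𝒳.p.obj w.obj)) (η.hom.toNatTrans.app (sob _ (hmem w l))) :=
      η.hom.isHomLift' (sob _ (hmem w l))
    simp only [c, Functor.map_comp, Groth.Agent.StkLib.w_map, map_eq_of_isHomLift_id hη]
    simp [him, toId, ov_map, sub_map]
  · let a := sob _ (hmem w l)
    let a' := sob _ (hmem w' (n.hom ≫ l))
    let g : a' ⟶ a := ObjectProperty.homMk (Over.homMk (𝒳.p.map n.hom) (Functor.map_comp _ _ _).symm)
    have hng : n.hom ≫ i w l = i w' (n.hom ≫ l) ≫ G.map g.hom := by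
      refine hom_ext_cart hX (G.map (toId a.obj) ≫ e.hom) ?_ ?_
      · simp [him, Groth.Agent.StkLib.w_map, g, ov_map]
      · rw [Category.assoc, hie, Category.assoc, ← Category.assoc (G.map g.hom), ← G.toFunctor.map_comp,
          show g.hom ≫ toId a.obj = toId a'.obj from Over.OverMorphism.ext (Over.w g.hom)]
        exact (hie w' (n.hom ≫ l)).symm
    have h1 : n ≫ (ObjectProperty.homMk (i w l) : w ⟶ GR.obj a) =
        (ObjectProperty.homMk (i w' (n.hom ≫ l)) : w' ⟶ GR.obj a') ≫ GR.map g :=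
      ObjectProperty.hom_ext _ hng
    have h2 : ψ.map (GR.map g) ≫ η.hom.toNatTrans.app a = η.hom.toNatTrans.app a' ≫ F.map g.hom :=
      η.hom.toNatTrans.naturality g
    have h3 : F.map g.hom ≫ F.map (toId a.obj) = F.map (toId a'.obj) :=
      (F.toFunctor.map_comp _ _).symm.trans (congrArg F.map (Over.OverMorphism.ext (Over.w g.hom)))
    show ψ.map n ≫ ψ.map _ ≫ η.hom.toNatTrans.app a ≫ F.map (toId a.obj) =
      ψ.map _ ≫ η.hom.toNatTrans.app a' ≫ F.map (toId a'.obj)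
    rw [← Category.assoc, ← ψ.toFunctor.map_comp, h1, ψ.toFunctor.map_comp, Category.assoc,
      ← Category.assoc (ψ.map (GR.map g)), h2, Category.assoc, h3]

omit hP in
theorem val_hom_ext {y : 𝒳.obj} (v : Val ψ y) {z : 𝒴.obj} (φ φ' : v.q ⟶ z) (hm : 𝒴.p.map φ = 𝒴.p.map φ')
    (h : ∀ w l, v.c w l ≫ φ = v.c w l ≫ φ') : φ = φ' := by
  obtain ⟨R, hR, hR'⟩ := hcov y
  refine hom_ext_local (isPrestack_of_isStack hY) φ φ' hm (J.pullback_stable (eqToHom v.hq) hR) fun V f hf => ?_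
  obtain ⟨w, a, ha, hw⟩ := hR' _ hf
  refine ⟨ψ.obj ⟨w, hw⟩, v.c ⟨w, hw⟩ a, IsHomLift.of_fac' _ f _
    ((ψ.w_obj _).trans (IsHomLift.domain_eq 𝒳.p (f ≫ eqToHom v.hq) a)) rfl ?_, h _ _⟩
  rw [v.hc, IsHomLift.fac' 𝒳.p (f ≫ eqToHom v.hq) a]
  simp

theorem exists_val_hom {y y' : 𝒳.obj} (v : Val ψ y) (v' : Val ψ y') (m : y ⟶ y') :
    ∃ φ : v.q ⟶ v'.q, 𝒴.p.map φ = eqToHom v.hq ≫ 𝒳.p.map m ≫ eqToHom v'.hq.symm ∧
      ∀ w l, v.c w l ≫ φ = v'.c w (l ≫ m) := by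
  obtain ⟨R₀, hR₀, hR₀'⟩ := hcov y
  let T : Sieve (𝒴.p.obj v.q) :=
    { arrows := fun V f => ∃ (w : (sub P).obj) (l : w.obj ⟶ y), 𝒴.p.IsHomLift f (v.c w l)
      downward_closed := by
        rintro V W f ⟨w, l, hl⟩ k
        have hw : 𝒳.p.obj w.obj = V := (ψ.w_obj w).symm.trans (IsHomLift.domain_eq 𝒴.p f (v.c w l))
        obtain ⟨w', n, hn⟩ := exists_lift_of_eq hX hw k
        refine ⟨⟨w', hP n w.property⟩, n ≫ l, ?_⟩
        let n' : (⟨w', hP n w.property⟩ : (sub P).obj) ⟶ w := ObjectProperty.homMk n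
        have : (sub P).p.IsHomLift k n' := IsHomLift.of_fac' _ k n' (IsHomLift.domain_eq 𝒳.p k n) hw
          (IsHomLift.fac' 𝒳.p k n)
        have := ψ.preserves_isHomLift k n'
        show 𝒴.p.IsHomLift (k ≫ f) (v.c _ (n'.hom ≫ l))
        rw [← v.nat _ _ n' l]
        infer_instance }
  have hT : T ∈ J (𝒴.p.obj v.q) := J.superset_covering (fun V f hf => by
    obtain ⟨w, a, ha, hw⟩ := hR₀' _ hf
    refine ⟨⟨w, hw⟩, a, IsHomLift.of_fac' _ f _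
      ((ψ.w_obj _).trans (IsHomLift.domain_eq 𝒳.p (f ≫ eqToHom v.hq) a)) rfl ?_⟩
    rw [v.hc, IsHomLift.fac' 𝒳.p (f ≫ eqToHom v.hq) a]
    simp) (J.pullback_stable (eqToHom v.hq) hR₀)
  have key : ∀ {z : 𝒴.obj} (b : z ⟶ v.q), T (𝒴.p.map b) → ∃ d : z ⟶ v'.q,
      ∀ (w : (sub P).obj) (l : w.obj ⟶ y) (i : z ⟶ ψ.obj w), IsIso (𝒴.p.map i) → i ≫ v.c w l = b →
        d = i ≫ v'.c w (l ≫ m) := by
    rintro z b ⟨w₁, l₁, hl₁⟩
    obtain ⟨i₁, hi₁, hie₁⟩ := exists_iso_of_lifts (hp := hY.1) (𝒴.p.map b) (v.c w₁ l₁) b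
    refine ⟨i₁.hom ≫ v'.c w₁ (l₁ ≫ m), fun w l i hiso hie => ?_⟩
    let g : 𝒳.p.obj w₁.obj ⟶ 𝒳.p.obj w.obj :=
      eqToHom (ψ.w_obj w₁).symm ≫ 𝒴.p.map (i₁.inv ≫ i) ≫ eqToHom (ψ.w_obj w)
    have hg : g ≫ 𝒳.p.map l = 𝒳.p.map l₁ := by
      have h : 𝒴.p.map (i₁.inv ≫ i) ≫ 𝒴.p.map (v.c w l) = 𝒴.p.map (v.c w₁ l₁) := by
        rw [← Functor.map_comp, Category.assoc, hie, ← hie₁, Iso.inv_hom_id_assoc]
      rw [v.hc, v.hc] at h
      rw [← cancel_mono (eqToHom v.hq.symm), ← cancel_epi (eqToHom (ψ.w_obj w₁))]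
      simpa [g] using h
    obtain ⟨j, hj, hje⟩ := exists_factor hX l l₁ g hg
    let j' : w₁ ⟶ w := ObjectProperty.homMk j
    have hij : i₁.hom ≫ ψ.map j' = i := by
      refine hom_ext_cart hY.1 (v.c w l) ?_ ?_
      · have hj' : 𝒴.p.map (ψ.map j') = 𝒴.p.map (i₁.inv ≫ i) := by
          rw [Groth.Agent.StkLib.w_map]
          show eqToHom _ ≫ 𝒳.p.map j ≫ eqToHom _ = _
          rw [hj]; simp [g]
        rw [Functor.map_comp, hj', ← Functor.map_comp, Iso.hom_inv_id_assoc]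
      · rw [Category.assoc, v.nat, hie, show j'.hom ≫ l = l₁ from hje, hie₁]
    rw [← hij, Category.assoc, v'.nat, show j'.hom ≫ l ≫ m = l₁ ≫ m from
      (Category.assoc _ _ _).symm.trans (congrArg (· ≫ m) hje)]
  have hsel : ∀ {z : 𝒴.obj} (b : z ⟶ v.q), T (𝒴.p.map b) → ∃ (w : (sub P).obj) (l : w.obj ⟶ y)
      (i : z ⟶ ψ.obj w), IsIso (𝒴.p.map i) ∧ i ≫ v.c w l = b := by
    rintro z b ⟨w₁, l₁, hl₁⟩
    obtain ⟨i₁, hi₁, hie₁⟩ := exists_iso_of_lifts (hp := hY.1) (𝒴.p.map b) (v.c w₁ l₁) b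
    exact ⟨w₁, l₁, i₁.hom, inferInstance, hie₁⟩
  choose d hd using @key
  obtain ⟨φ, hφm, hφ⟩ := exists_glue (isPrestack_of_isStack hY)
    (eqToHom v.hq ≫ 𝒳.p.map m ≫ eqToHom v'.hq.symm) T hT (fun b hb => d b hb)
    (fun {z} b hb => by
      obtain ⟨w, l, i, hi, hie⟩ := hsel b hb
      rw [hd b hb w l i hi hie, ← hie, Functor.map_comp, Functor.map_comp, v.hc, v'.hc]
      simp)
    (fun {z' z} n a ha ha' => by
      obtain ⟨w, l, i, hi, hie⟩ := hsel a ha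
      obtain ⟨w', l', i', hi', hie'⟩ := hsel (n ≫ a) ha'
      rw [hd a ha w l i hi hie, hd (n ≫ a) ha' w' l' i' hi' hie']
      -- the map between the two chosen objects
      let g : 𝒳.p.obj w'.obj ⟶ 𝒳.p.obj w.obj :=
        eqToHom (ψ.w_obj w').symm ≫ inv (𝒴.p.map i') ≫ 𝒴.p.map (n ≫ i) ≫ eqToHom (ψ.w_obj w)
      have hg : g ≫ 𝒳.p.map l = 𝒳.p.map l' := by
        have h : inv (𝒴.p.map i') ≫ 𝒴.p.map (n ≫ i) ≫ 𝒴.p.map (v.c w l) = 𝒴.p.map (v.c w' l') := by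
          rw [IsIso.inv_comp_eq, ← Functor.map_comp, ← Functor.map_comp, Category.assoc, hie, hie']
        rw [v.hc, v.hc] at h
        rw [← cancel_mono (eqToHom v.hq.symm), ← cancel_epi (eqToHom (ψ.w_obj w'))]
        simpa [g] using h
      obtain ⟨j, hj, hje⟩ := exists_factor hX l l' g hg
      let j' : w' ⟶ w := ObjectProperty.homMk j
      have hij : i' ≫ ψ.map j' = n ≫ i := by
        refine hom_ext_cart hY.1 (v.c w l) ?_ ?_
        · rw [Functor.map_comp, Groth.Agent.StkLib.w_map]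
          show 𝒴.p.map i' ≫ eqToHom _ ≫ 𝒳.p.map j ≫ eqToHom _ = _
          rw [hj]; simp [g]
        · rw [Category.assoc, v.nat, show j'.hom ≫ l = l' from hje, hie', Category.assoc, hie]
      rw [← Category.assoc n, ← hij, Category.assoc, v'.nat,
        show j'.hom ≫ l ≫ m = l' ≫ m from (Category.assoc _ _ _).symm.trans (congrArg (· ≫ m) hje)])
  refine ⟨φ, hφm, fun w l => ?_⟩
  have hT' : T (𝒴.p.map (v.c w l)) := ⟨w, l, inferInstance⟩
  rw [hφ (v.c w l) hT', hd _ hT' w l (𝟙 _) (by rw [CategoryTheory.Functor.map_id]; infer_instance) (Category.id_comp _),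
    Category.id_comp]

/-- A functor on a locally dense full subcategory extends to a stack. -/
theorem exists_extension : ∃ (φ : 𝒳 ⥤ᵇ 𝒴) (η : ∀ w : (sub P).obj, φ.obj w.obj ≅ ψ.obj w),
    (∀ w, 𝒴.p.IsHomLift (𝟙 (𝒳.p.obj w.obj)) (η w).hom) ∧
      ∀ (w' w : (sub P).obj) (n : w' ⟶ w), φ.map n.hom ≫ (η w).hom = (η w').hom ≫ ψ.map n := by
  let v : ∀ y, Val ψ y := fun y => (nonempty_val hX hY (fun {_ _} m => hP m) hcov ψ y).some
  choose mor hmor hmor' using fun (y y' : 𝒳.obj) (m : y ⟶ y') =>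
    exists_val_hom hX hY (fun {_ _} m => hP m) hcov ψ (v y) (v y') m
  let φ₀ : 𝒳.obj ⥤ 𝒴.obj :=
    { obj := fun y => (v y).q
      map := fun {y y'} m => mor y y' m
      map_id := fun y => val_hom_ext hX hY hcov ψ (v y) _ _ (by simp [hmor]) fun w l => by
        rw [hmor', Category.comp_id, Category.comp_id]
      map_comp := fun {a b c} m m' => val_hom_ext hX hY hcov ψ (v a) _ _ (by simp [hmor]) fun w l => by
        rw [hmor', ← Category.assoc ((v a).c w l), hmor', hmor', Category.assoc] }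
  let φ : 𝒳 ⥤ᵇ 𝒴 :=
    { toFunctor := φ₀
      w := CategoryTheory.Functor.ext (fun y => (v y).hq) fun a b m => hmor a b m }
  have hciso : ∀ w : (sub P).obj, IsIso ((v w.obj).c w (𝟙 w.obj)) := fun w => by
    have : IsIso (𝒴.p.map ((v w.obj).c w (𝟙 w.obj))) := by
      rw [(v w.obj).hc, show 𝒳.p.map (𝟙 w.obj) = 𝟙 _ from 𝒳.p.map_id _]
      exact IsIso.comp_isIso' inferInstance (IsIso.comp_isIso' (IsIso.id _) inferInstance)
    exact isIso_of_lift (hp := hY.1) (𝒴.p.map ((v w.obj).c w (𝟙 w.obj))) _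
  let η : ∀ w : (sub P).obj, φ.obj w.obj ≅ ψ.obj w := fun w =>
    haveI := hciso w
    (asIso ((v w.obj).c w (𝟙 w.obj))).symm
  refine ⟨φ, η, fun w => ?_, fun w' w n => ?_⟩
  · have := hciso w
    have : 𝒴.p.IsHomLift (𝟙 (𝒳.p.obj w.obj)) (asIso ((v w.obj).c w (𝟙 w.obj))).hom :=
      IsHomLift.of_fac' _ _ _ (ψ.w_obj w) (v w.obj).hq
        (((v w.obj).hc w (𝟙 w.obj)).trans (by rw [show 𝒳.p.map (𝟙 w.obj) = 𝟙 _ from 𝒳.p.map_id _]))
    exact IsHomLift.lift_id_inv 𝒴.p (𝒳.p.obj w.obj) (asIso ((v w.obj).c w (𝟙 w.obj)))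
  · have := hciso w
    have := hciso w'
    show mor _ _ n.hom ≫ inv ((v w.obj).c w (𝟙 w.obj)) = inv ((v w'.obj).c w' (𝟙 w'.obj)) ≫ ψ.map n
    rw [IsIso.comp_inv_eq, Category.assoc, (v w.obj).nat, IsIso.eq_inv_comp, hmor', Category.id_comp,
      Category.comp_id]

end Groth.Agent.Ext49
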