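import Groth.Prelude.Def_ChGrp
import Groth.Agent.Ext49.Equiv
import Groth.Agent.ArtinBoot49.Compare
import Groth.Agent.QuotLib.TrivHom
import Groth.Agent.IsoNatLib.BG
import Groth.Agent.GerbLib.Twist

/-!
# Induction: the quotient of a balanced product
-/

set_option autoImplicit false
set_option backward.isDefEq.respectTransparency false
set_option backward.isDefEq.respectTransparency.types false
set_option linter.unusedVariables false

universe u

open CategoryTheory CategoryTheory.Functor CategoryTheory.Limits MonoidalCategory CartesianMonoidalCategory MonObj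
  GrpObj AlgebraicGeometry AlgSp Groth.Agent.FibBase Groth.Agent.QuotLib Groth.Agent.GerbLib

namespace Groth.Agent.Ext49

variable {S : Scheme.{u}}

local notation "K₀" => Scheme.fppfPrecoverage

/-- A covering of a scheme by morphisms gives a covering sieve over the base. -/
theorem sieve_mem_J_of_presieve {U : Over S} {R : Presieve U.left} (hR : R ∈ K₀ U.left) (T : Sieve U)
    (hT : ∀ ⦃W : Scheme.{u}⦄ (f : W ⟶ U.left), R f → T (Over.homMk f rfl : Over.mk (f ≫ U.hom) ⟶ U)) :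
    T ∈ J S U := by
  rw [GrothendieckTopology.mem_over_iff]
  refine GrothendieckTopology.superset_covering _ ?_ (Precoverage.generate_mem_toGrothendieck hR)
  rintro Z _ ⟨Y, a, f, hf, rfl⟩
  rw [Sieve.overEquiv_iff]
  have h := T.downward_closed (hT f hf)
    (Over.homMk a (by simp) : Over.mk ((a ≫ f) ≫ U.hom) ⟶ Over.mk (f ≫ U.hom))
  convert h using 1
  ext
  simp

section Split

variable {G X : Over S} [GrpObj G] {aX : AlgGrp.Action G X}

/-- Torsors with a section. -/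
abbrev Split : ObjectProperty (AlgSt.QuotSt K₀ G aX).obj := fun A => ∃ s : A.base ⟶ A.P, s ≫ A.π = 𝟙 A.base

theorem split_of_hom {A' A : AlgSt.QuotObj K₀ G aX} (n : A' ⟶ A) (hA : Split A) : Split A' := by
  obtain ⟨s, hs⟩ := hA
  exact ⟨n.cart.lift (n.base ≫ s) (𝟙 _) (by rw [Category.assoc, hs, Category.comp_id, Category.id_comp]),
    n.cart.lift_snd _ _ _⟩

theorem split_triv {T : Over S} (x : T ⟶ X) : Split (triv K₀ G aX x) :=
  ⟨sec G T, lift_snd _ _⟩

/-- Every torsor is locally trivial. -/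
theorem exists_triv_cover (A : AlgSt.QuotObj K₀ G aX) : ∃ R ∈ J S A.base, ∀ ⦃V : Over S⦄ (f : V ⟶ A.base), R f →
    ∃ (x : V ⟶ X) (h : triv K₀ G aX x ⟶ A), h.base = f := by
  obtain ⟨R, hR, hR'⟩ := exists_cover_triv A
  let T : Sieve A.base :=
    { arrows := fun V f => ∃ (x : V ⟶ X) (h : triv K₀ G aX x ⟶ A), h.base = f
      downward_closed := by
        rintro V W f ⟨x, h, rfl⟩ k
        obtain ⟨l, hl, -⟩ := (hom_triv_iff (K := K₀) (G := G) (aX := aX) k (k ≫ x) x).2 1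
          (aX.lift_one_act _)
        exact ⟨k ≫ x, l ≫ h, by rw [AlgSt.QuotObj.comp_base, hl]⟩ }
  refine ⟨T, sieve_mem_J_of_presieve hR T fun W f hf => ?_, fun V f hf => hf⟩
  obtain ⟨x, h, hh⟩ := hR' f hf
  exact ⟨x, h, hh⟩

theorem isHomLift_of_base {A B : AlgSt.QuotObj K₀ G aX} (h : A ⟶ B) {f : A.base ⟶ B.base} (hf : h.base = f) :
    (AlgSt.QuotSt K₀ G aX).p.IsHomLift f h := by
  subst hf
  exact IsHomLift.map (AlgSt.QuotSt K₀ G aX).p h

theorem split_dense : Dense (J S) (Split : ObjectProperty (AlgSt.QuotSt K₀ G aX).obj) := fun A => by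
  obtain ⟨R, hR, hR'⟩ := exists_triv_cover A
  refine ⟨R, hR, fun V f hf => ?_⟩
  obtain ⟨x, h, hh⟩ := hR' f hf
  exact ⟨triv K₀ G aX x, h, isHomLift_of_base h hh, split_triv x⟩

/-- The group coordinate of a morphism of trivial torsors. -/
noncomputable abbrev coord {T T' : Over S} {x : T ⟶ X} {x' : T' ⟶ X}
    (k : triv K₀ G aX x ⟶ triv K₀ G aX x') : T ⟶ G :=
  (show T ⟶ G ⊗ T' from sec G T ≫ k.top) ≫ fst G T'

/-- The base coordinate of a morphism of trivial torsors. -/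
abbrev bmap {T T' : Over S} {x : T ⟶ X} {x' : T' ⟶ X} (k : triv K₀ G aX x ⟶ triv K₀ G aX x') : T ⟶ T' := k.base

theorem sec_top {T T' : Over S} {x : T ⟶ X} {x' : T' ⟶ X} (k : triv K₀ G aX x ⟶ triv K₀ G aX x') :
    ∃ g : T ⟶ G, coord k = g ∧ lift g (bmap k ≫ x') ≫ aX.act = x ∧
      k.top = (lift (fst G T * (snd G T ≫ g)) (snd G T ≫ bmap k) : G ⊗ T ⟶ G ⊗ T') := by
  obtain ⟨g, hx, hg⟩ := (hom_triv_iff (K := K₀) (G := G) (aX := aX) (bmap k) x x').1 k rfl
  refine ⟨g, ?_, hx, hg⟩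
  have h : (show T ⟶ G ⊗ T' from sec G T ≫ k.top) =
      sec G T ≫ (lift (fst G T * (snd G T ≫ g)) (snd G T ≫ bmap k) : G ⊗ T ⟶ G ⊗ T') := congrArg (sec G T ≫ ·) hg
  show (show T ⟶ G ⊗ T' from sec G T ≫ k.top) ≫ fst G T' = g
  rw [h]
  simp [sec, comp_mul]

theorem coord_id {T : Over S} (x : T ⟶ X) : coord (𝟙 (triv K₀ G aX x)) = 1 := by
  show (sec G T ≫ 𝟙 (G ⊗ T)) ≫ fst G T = 1
  simp [sec]

theorem coord_comp {T T' T'' : Over S} {x : T ⟶ X} {x' : T' ⟶ X} {x'' : T'' ⟶ X}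
    (k : triv K₀ G aX x ⟶ triv K₀ G aX x') (k' : triv K₀ G aX x' ⟶ triv K₀ G aX x'') :
    coord (k ≫ k') = coord k * (bmap k ≫ coord k') := by
  obtain ⟨g, hg, -, hk⟩ := sec_top k
  obtain ⟨g', hg', -, hk'⟩ := sec_top k'
  rw [hg, hg']
  show (show T ⟶ G ⊗ T'' from sec G T ≫ k.top ≫ k'.top) ≫ fst G T'' = _
  rw [hk, hk']
  simp [sec, comp_mul, comp_lift]

theorem triv_hom_ext {T T' : Over S} {x : T ⟶ X} {x' : T' ⟶ X} {k k' : triv K₀ G aX x ⟶ triv K₀ G aX x'}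
    (hb : bmap k = bmap k') (hg : coord k = coord k') : k = k' := by
  obtain ⟨g, h1, -, hk⟩ := sec_top k
  obtain ⟨g', h2, -, hk'⟩ := sec_top k'
  refine AlgSt.QuotObj.hom_ext hb ?_
  rw [hk, hk', ← h1, ← h2, hg, hb]

theorem triv_hom_rel {T T' : Over S} {x : T ⟶ X} {x' : T' ⟶ X} (k : triv K₀ G aX x ⟶ triv K₀ G aX x') :
    lift (coord k) (bmap k ≫ x') ≫ aX.act = x := by
  obtain ⟨g, hg, hx, -⟩ := sec_top k
  rwa [hg]

theorem exists_triv_hom {T T' : Over S} {x : T ⟶ X} {x' : T' ⟶ X} (f : T ⟶ T') (g : T ⟶ G)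
    (h : lift g (f ≫ x') ≫ aX.act = x) :
    ∃ k : triv K₀ G aX x ⟶ triv K₀ G aX x', bmap k = f ∧ coord k = g := by
  obtain ⟨k, hk, hk'⟩ := (hom_triv_iff (K := K₀) (G := G) (aX := aX) f x x').2 g h
  refine ⟨k, hk, ?_⟩
  show (show T ⟶ G ⊗ T' from sec G T ≫ k.top) ≫ fst G T' = g
  rw [hk']
  simp [sec, comp_mul]

end Split

variable {G H Z Y : Over S} [GrpObj G] [GrpObj H] (i : H ⟶ G) [IsMonHom i] {aZ : AlgGrp.Action H Z}
  {aY : AlgGrp.Action G Y} {j : G ⊗ Z ⟶ Y}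

theorem isQuotientOf_of_isBalProd [IsAffineHom G.hom] [IsAffineHom H.hom]
    (hY : ChGrp.IsBalProd K₀ i aZ aY j) : AlgSt.IsQuotientOf K₀ H aZ (AlgSt.QuotSt K₀ G aY) := by
  obtain ⟨heq, hpb, hloc⟩ := hY
  have hj : ∀ {T : Over S} (g g' : T ⟶ G) (z : T ⟶ Z),
      lift g (lift g' z ≫ j) ≫ aY.act = lift (g * g') z ≫ j := by
    intro T g g' z
    have h := congrArg (fun t => lift g (lift g' z) ≫ t) heq
    simp only [lift_whiskerLeft_assoc] at h
    rw [← h, AlgGrp.Action.lift_prod_act_assoc, AlgGrp.Action.lift_trivial_act]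
    rfl
  have hinv : ∀ {T : Over S} (g : T ⟶ G) (h : T ⟶ H) (z : T ⟶ Z),
      lift (g * (h ≫ i)⁻¹) (lift h z ≫ aZ.act) ≫ j = lift g z ≫ j := by
    intro T g h z
    rw [← ChGrp.lift_twist_act, Category.assoc, hpb.w, lift_snd_assoc]
  have hex : ∀ {T : Over S} (g₁ g₂ : T ⟶ G) (z₁ z₂ : T ⟶ Z), lift g₁ z₁ ≫ j = lift g₂ z₂ ≫ j →
      ∃ h : T ⟶ H, g₁ = g₂ * (h ≫ i)⁻¹ ∧ z₁ = lift h z₂ ≫ aZ.act := by
    intro T g₁ g₂ z₁ z₂ e
    let l := hpb.lift (lift g₁ z₁) (lift g₂ z₂) e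
    have h1 : l ≫ (ChGrp.twist i aZ).act = lift g₁ z₁ := hpb.lift_fst _ _ _
    have h2 : l ≫ snd H (G ⊗ Z) = lift g₂ z₂ := hpb.lift_snd _ _ _
    have hl : l = lift (l ≫ fst H (G ⊗ Z)) (lift g₂ z₂) := by
      rw [← h2]; apply CartesianMonoidalCategory.hom_ext <;> simp
    rw [hl, ChGrp.lift_twist_act] at h1
    exact ⟨l ≫ fst H (G ⊗ Z), by simpa using (congrArg (· ≫ fst G Z) h1).symm,
      by simpa using (congrArg (· ≫ snd G Z) h1).symm⟩
  have huniq : ∀ {T : Over S} (h h' : T ⟶ H) (z : T ⟶ Z), h ≫ i = h' ≫ i →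
      lift h z ≫ aZ.act = lift h' z ≫ aZ.act → h = h' := by
    intro T h h' z e1 e2
    have := hpb.hom_ext (k := lift h (lift (1 : T ⟶ G) z)) (l := lift h' (lift (1 : T ⟶ G) z))
      (by rw [ChGrp.lift_twist_act, ChGrp.lift_twist_act, e1, e2]) (by simp)
    simpa using congrArg (· ≫ fst H (G ⊗ Z)) this
  let jpt : ∀ {T : Over S}, (T ⟶ Z) → (T ⟶ Y) := fun {T} z => lift (1 : T ⟶ G) z ≫ j
  let 𝒳 := AlgSt.QuotSt K₀ H aZ
  let 𝒴 := AlgSt.QuotSt K₀ G aY
  have hXst : Stk.IsStack (J S) 𝒳 := ArtinBoot49.isStack_quotSt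
  have hYst : Stk.IsStack (J S) 𝒴 := ArtinBoot49.isStack_quotSt
  let P : ObjectProperty 𝒳.obj := Split
  have hP : ∀ {a' a : 𝒳.obj} (_ : a' ⟶ a), P a → P a' := fun n ha => split_of_hom n ha
  -- trivialisations
  let s : ∀ w : (sub P).obj, w.obj.base ⟶ w.obj.P := fun w => w.property.choose
  have hs : ∀ w, s w ≫ w.obj.π = 𝟙 _ := fun w => w.property.choose_spec
  let x : ∀ w : (sub P).obj, w.obj.base ⟶ Z := fun w => s w ≫ w.obj.φ
  let c : ∀ w : (sub P).obj, triv K₀ H aZ (x w) ⟶ w.obj := fun w => trivHom w.obj (s w) (x w) rfl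
  have hcb : ∀ w, (c w).base = 𝟙 _ := fun w => hs w
  have hciso : ∀ w, IsIso (c w) := fun w => by
    have : IsIso (𝒳.p.map (c w)) := by
      show IsIso (c w).base
      rw [hcb]; infer_instance
    exact GerbLib.isIso_of_map hXst.1 (c w)
  have hcinv : ∀ w, (inv (c w)).base = 𝟙 _ := fun w => by
    have h1 : (c w).base ≫ (inv (c w)).base = 𝟙 _ :=
      congrArg AlgSt.QuotObj.Hom.base (IsIso.hom_inv_id (c w))
    rwa [hcb, Category.id_comp] at h1
  let k : ∀ {w' w : (sub P).obj}, (w' ⟶ w) → (triv K₀ H aZ (x w') ⟶ triv K₀ H aZ (x w)) :=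
    fun {w' w} n => c w' ≫ n.hom ≫ inv (c w)
  have hkb : ∀ {w' w : (sub P).obj} (n : w' ⟶ w), bmap (k n) = n.hom.base := fun {w' w} n => by
    show (c w').base ≫ n.hom.base ≫ (inv (c w)).base = _
    rw [hcb, hcinv]
    exact (Category.id_comp _).trans (Category.comp_id _)
  let hh : ∀ {w' w : (sub P).obj}, (w' ⟶ w) → (w'.obj.base ⟶ H) :=
    fun {w' w} n => coord (k n)
  have hrel : ∀ {w' w : (sub P).obj} (n : w' ⟶ w),
      lift (hh n) (n.hom.base ≫ x w) ≫ aZ.act = x w' := fun {w' w} n => by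
    rw [← hkb]; exact triv_hom_rel (k n)
  have hψrel : ∀ {w' w : (sub P).obj} (n : w' ⟶ w),
      lift (hh n ≫ i) (n.hom.base ≫ jpt (x w)) ≫ aY.act = jpt (x w') := fun {w' w} n => by
    show lift (hh n ≫ i) (n.hom.base ≫ lift 1 (x w) ≫ j) ≫ aY.act = lift 1 (x w') ≫ j
    rw [← Category.assoc n.hom.base, comp_lift, MonObj.comp_one, hj, _root_.mul_one, ← hrel n,
      ← hinv (hh n ≫ i) (hh n), mul_inv_cancel]
  choose τ hτb hτg using fun {w' w : (sub P).obj} (n : w' ⟶ w) =>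
    exists_triv_hom (aX := aY) n.hom.base (hh n ≫ i) (hψrel n)
  have hk1 : ∀ w : (sub P).obj, k (𝟙 w) = 𝟙 _ := fun w => by
    show c w ≫ 𝟙 _ ≫ inv (c w) = _
    simp
  have hkc : ∀ {a b c' : (sub P).obj} (m : a ⟶ b) (n : b ⟶ c'), k (m ≫ n) = k m ≫ k n := fun m n => by
    show _ ≫ (m.hom ≫ n.hom) ≫ _ = _
    simp [k]
  let ψ₀ : (sub P).obj ⥤ 𝒴.obj :=
    { obj := fun w => triv K₀ G aY (jpt (x w))
      map := fun {w' w} n => τ n
      map_id := fun w => by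
        refine triv_hom_ext (by rw [hτb]; rfl) ?_
        rw [hτg, coord_id]
        show coord (k (𝟙 w)) ≫ i = 1
        rw [hk1, coord_id, MonObj.one_comp]
      map_comp := fun {a b c'} m n => by
        refine triv_hom_ext (by rw [hτb]; exact (congrArg₂ (· ≫ ·) (hτb m) (hτb n)).symm) ?_
        rw [hτg, coord_comp, hτg, hτg, hτb]
        show coord (k (m ≫ n)) ≫ i = _
        rw [hkc, coord_comp, MonObj.mul_comp, hkb, Category.assoc]
        rfl }
  let ψ : sub P ⥤ᵇ 𝒴 :=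
    { toFunctor := ψ₀
      w := CategoryTheory.Functor.ext (fun w => rfl) fun w' w n => by
        simp only [eqToHom_refl, Category.comp_id, Category.id_comp]
        exact hτb n }
  obtain ⟨φ, η', hη', hηn⟩ := exists_extension hXst.1 hYst (fun {_ _} n => hP n) split_dense ψ
  refine ⟨φ, isEquivOver_of_dense hXst hYst (fun {_ _} n => hP n) split_dense φ ?_ ?_ ?_⟩
  · intro a b ha hb m m' e
    let A : (sub P).obj := ⟨a, ha⟩
    let B : (sub P).obj := ⟨b, hb⟩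
    let n : A ⟶ B := ObjectProperty.homMk m
    let n' : A ⟶ B := ObjectProperty.homMk m'
    have h1 : τ n = τ n' := by
      have e1 := hηn A B n
      have e2 := hηn A B n'
      rw [← cancel_epi (η' A).hom]
      exact e1.symm.trans ((congrArg (· ≫ (η' B).hom) e).trans e2)
    have hb' : n.hom.base = n'.hom.base := by rw [← hτb n, ← hτb n', h1]
    have hi' : hh n ≫ i = hh n' ≫ i := by rw [← hτg n, ← hτg n', h1]
    have h2 : hh n = hh n' := huniq _ _ (n.hom.base ≫ x B) hi' (by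
      rw [hrel n, hb', hrel n'])
    have h3 : k n = k n' := triv_hom_ext (by rw [hkb, hkb, hb']) h2
    exact (cancel_mono (inv (c B))).1 ((cancel_epi (c A)).1 h3)
  · intro a b ha hb g
    let A : (sub P).obj := ⟨a, ha⟩
    let B : (sub P).obj := ⟨b, hb⟩
    let g' : triv K₀ G aY (jpt (x A)) ⟶ triv K₀ G aY (jpt (x B)) := (η' A).inv ≫ g ≫ (η' B).hom
    let f : a.base ⟶ b.base := g'.base
    let g₀ : a.base ⟶ G := coord g' 
    have h1 : lift g₀ (f ≫ jpt (x B)) ≫ aY.act = jpt (x A) := triv_hom_rel g'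
    have h2 : lift (1 : a.base ⟶ G) (x A) ≫ j = lift g₀ (f ≫ x B) ≫ j := by
      have h3 : ∀ {U : Over S} (q : a.base ⟶ U) (z : U ⟶ Z),
          q ≫ jpt z = lift (1 : a.base ⟶ G) (q ≫ z) ≫ j := fun q z => by
        show q ≫ lift 1 z ≫ j = _
        rw [← Category.assoc q, comp_lift, MonObj.comp_one]
      rw [← _root_.mul_one g₀, ← hj, ← h3 f (x B)]
      exact h1.symm
    obtain ⟨h, hg₀, hx⟩ := hex _ _ _ _ h2
    obtain ⟨k₀, hk₀, hk₀'⟩ := exists_triv_hom (aX := aZ) (x := x A) (x' := x B) f h hx.symm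
    let n : A ⟶ B := ObjectProperty.homMk (inv (c A) ≫ k₀ ≫ c B)
    refine ⟨n.hom, ?_⟩
    have hkn : k n = k₀ := by
      show c A ≫ (inv (c A) ≫ k₀ ≫ c B) ≫ inv (c B) = k₀
      simp
    have hτ : τ n = g' := by
      refine triv_hom_ext ?_ ?_
      · rw [hτb, ← hkb, hkn, hk₀]
      · rw [hτg]
        show coord (k n) ≫ i = g₀
        rw [hkn, hk₀']
        exact (eq_mul_inv_iff_mul_eq.1 hg₀).symm.trans (_root_.one_mul _) |>.symm
    rw [← cancel_mono (η' B).hom, hηn A B n]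
    show (η' A).hom ≫ τ n = g ≫ (η' B).hom
    rw [hτ]
    exact Iso.hom_inv_id_assoc _ _
  · intro A
    obtain ⟨R, hR, hR'⟩ := exists_triv_cover A
    let T : Sieve A.base :=
      { arrows := fun V f => ∃ (w : 𝒴.obj) (l : w ⟶ A), 𝒴.p.IsHomLift f l ∧ ∃ a, P a ∧ Nonempty (w ⟶ φ.obj a)
        downward_closed := by
          rintro V W f ⟨w, l, hl, a, ha, ⟨e⟩⟩ q
          obtain ⟨w', m, hm⟩ := FibBase.exists_lift_of_eq hYst.1 (IsHomLift.domain_eq 𝒴.p f l) q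
          exact ⟨w', m ≫ l, inferInstance, a, ha, ⟨m ≫ e⟩⟩ }
    refine ⟨T, (J S).transitive hR _ fun V f hf => ?_, fun V f hf => hf⟩
    obtain ⟨y, l, hl⟩ := hR' f hf
    obtain ⟨Rj, hRj, hRj'⟩ := hloc
    let U : Sieve Y :=
      { arrows := fun W q => ∃ (g : W ⟶ G) (z : W ⟶ Z), lift g z ≫ j = q
        downward_closed := by
          rintro W W' q ⟨g, z, rfl⟩ r
          exact ⟨r ≫ g, r ≫ z, by rw [← comp_lift, Category.assoc]⟩ }
    have hU : U ∈ J S Y := sieve_mem_J_of_presieve hRj U fun W q hq => by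
      obtain ⟨b, hb⟩ := hRj' q hq
      have hb' : b ≫ j.left = q := hb
      let b' : Over.mk (q ≫ Y.hom) ⟶ G ⊗ Z := Over.homMk b (by
        show b ≫ (G ⊗ Z).hom = q ≫ Y.hom
        rw [← Over.w j, ← Category.assoc, hb'])
      exact ⟨b' ≫ fst G Z, b' ≫ snd G Z, by
        rw [← comp_lift, lift_fst_snd, Category.comp_id]; exact Over.OverMorphism.ext hb'⟩
    refine (J S).superset_covering ?_ ((J S).pullback_stable y hU)
    intro W q hq
    obtain ⟨g, z, hgz⟩ := hq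
    let a₀ : 𝒳.obj := triv K₀ H aZ z
    let A₀ : (sub P).obj := ⟨a₀, split_triv z⟩
    obtain ⟨m, hm, -⟩ := exists_triv_hom (aX := aY) (x := q ≫ y) (x' := y) q 1 (aY.lift_one_act _)
    obtain ⟨e, he, -⟩ := exists_triv_hom (aX := aY) (x := q ≫ y) (x' := jpt z) (𝟙 W) g (by
      rw [Category.id_comp]
      show lift g (lift 1 z ≫ j) ≫ aY.act = _
      rw [hj, _root_.mul_one, hgz])
    have hcrel := triv_hom_rel (inv (c A₀) : triv K₀ H aZ z ⟶ triv K₀ H aZ (x A₀))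
    have hcb₀ : bmap (inv (c A₀) : triv K₀ H aZ z ⟶ triv K₀ H aZ (x A₀)) = 𝟙 W := hcinv A₀
    rw [hcb₀] at hcrel
    let h₀ : W ⟶ H := coord (inv (c A₀) : triv K₀ H aZ z ⟶ triv K₀ H aZ (x A₀))
    obtain ⟨e', he', -⟩ := exists_triv_hom (aX := aY) (x := jpt z) (x' := jpt (x A₀)) (𝟙 W) (h₀ ≫ i) (by
      show lift (h₀ ≫ i) (𝟙 W ≫ lift 1 (x A₀) ≫ j) ≫ aY.act = lift 1 z ≫ j
      rw [Category.id_comp, hj, _root_.mul_one]
      conv_rhs => rw [← hcrel, Category.id_comp]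
      rw [← hinv (h₀ ≫ i) h₀, mul_inv_cancel])
    refine ⟨triv K₀ G aY (q ≫ y), m ≫ l, isHomLift_of_base (m ≫ l) ?_, a₀, split_triv z, ⟨e ≫ e' ≫ (η' A₀).inv⟩⟩
    show bmap m ≫ l.base = q ≫ f
    rw [hm, hl]

end Groth.Agent.Ext49

namespace Groth.Agent.Ext49

variable {S : Scheme.{u}} {G H X Q : Over S} [GrpObj G] [GrpObj H] {i : H ⟶ G} [IsMonHom i]
  (aX : AlgGrp.Action G X) {aQ : AlgGrp.Action G Q} {q₀ : 𝟙_ (Over S) ⟶ Q}

/-- The product with a homogeneous space is a balanced product. -/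
theorem isBalProd_of_isHomog (hQ : ChGrp.IsHomog Scheme.fppfPrecoverage i aQ q₀) :
    ChGrp.IsBalProd Scheme.fppfPrecoverage i (aX.restrict i) (aQ.prod aX)
      (lift (fst G X ≫ aQ.orbitMap q₀) aX.act) := by
  obtain ⟨-, hpb, hloc⟩ := hQ
  let o := aQ.orbitMap q₀
  let j : G ⊗ X ⟶ Q ⊗ X := lift (fst G X ≫ o) aX.act
  have hj : ∀ {T : Over S} (g : T ⟶ G) (z : T ⟶ X), lift g z ≫ j = lift (g ≫ o) (lift g z ≫ aX.act) :=
    fun g z => by simp [j, comp_lift]
  have ho : ∀ {T : Over S} (g g' : T ⟶ G), lift g (g' ≫ o) ≫ aQ.act = (g * g') ≫ o := fun g g' => by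
    rw [AlgGrp.Action.comp_orbitMap, AlgGrp.Action.comp_orbitMap, AlgGrp.Action.lift_mul_act]
  have htw : ∀ {T : Over S} (h : T ⟶ H) (g : T ⟶ G) (z : T ⟶ X),
      lift h (lift g z) ≫ (ChGrp.twist i (aX.restrict i)).act =
        lift (g * (h ≫ i)⁻¹) (lift (h ≫ i) z ≫ aX.act) := fun h g z => by
    rw [ChGrp.lift_twist_act, AlgGrp.Action.lift_restrict_act]
  have hl : ∀ {T : Over S} (g : T ⟶ G) (h : T ⟶ H), lift g h ≫ (G ◁ i) ≫ μ[G] = g * (h ≫ i) := fun g h => by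
    rw [lift_whiskerLeft_assoc]; exact (Hom.mul_def _ _).symm
  have horb : ∀ {T : Over S} (g : T ⟶ G) (h : T ⟶ H), (g * (h ≫ i)) ≫ o = g ≫ o := fun g h => by
    have := congrArg (lift g h ≫ ·) hpb.w
    simp only [← Category.assoc, lift_fst] at this
    rw [Category.assoc (lift g h), hl] at this
    exact this.symm
  have hdec : ∀ {T U V : Over S} (p : T ⟶ U ⊗ V), p = lift (p ≫ fst U V) (p ≫ snd U V) := fun p => by
    rw [← comp_lift, lift_fst_snd, Category.comp_id]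
  refine ⟨?_, ⟨⟨?_⟩, ⟨?_⟩⟩, ?_⟩
  · apply AlgGrp.Action.hom_ext_lift₂
    intro T g p
    rw [hdec p, AlgGrp.Action.lift_prod_act_assoc, lift_whiskerLeft_assoc, AlgGrp.Action.lift_trivial_act, hj, hj,
      AlgGrp.Action.lift_prod_act, ho, ← AlgGrp.Action.lift_mul_act]
    rfl
  · apply AlgGrp.Action.hom_ext_lift₂
    intro T h p
    rw [hdec p, ← Category.assoc, htw, hj, lift_snd_assoc, hj, ← AlgGrp.Action.lift_mul_act]
    refine congrArg₂ lift ?_ ?_
    · conv_lhs => rw [← horb _ h]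
      rw [inv_mul_cancel_right]
    · rw [inv_mul_cancel_right]
  · have key : ∀ c : PullbackCone j j, ∃ l : c.pt ⟶ H ⊗ (G ⊗ X),
        (l ≫ (ChGrp.twist i (aX.restrict i)).act = c.fst ∧ l ≫ snd H (G ⊗ X) = c.snd) ∧
        ∀ m, m ≫ (ChGrp.twist i (aX.restrict i)).act = c.fst → m ≫ snd H (G ⊗ X) = c.snd → m = l := by
      intro c
      let g₁ := c.fst ≫ fst G X
      let z₁ := c.fst ≫ snd G X
      let g₂ := c.snd ≫ fst G X
      let z₂ := c.snd ≫ snd G X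
      have e : lift g₁ z₁ ≫ j = lift g₂ z₂ ≫ j := by rw [← hdec, ← hdec]; exact c.condition
      rw [hj, hj] at e
      have e1 : g₁ ≫ o = g₂ ≫ o := by simpa using congrArg (· ≫ fst Q X) e
      have e2 : lift g₁ z₁ ≫ aX.act = lift g₂ z₂ ≫ aX.act := by simpa using congrArg (· ≫ snd Q X) e
      let h := hpb.lift g₁ g₂ e1 ≫ snd G H
      have h1 : hpb.lift g₁ g₂ e1 = lift g₁ h := by
        conv_lhs => rw [hdec (hpb.lift g₁ g₂ e1), hpb.lift_fst]
      have h2 : g₂ = g₁ * (h ≫ i) := by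
        rw [← hl, ← h1, hpb.lift_snd]
      have h3 : g₂ * (h ≫ i)⁻¹ = g₁ := by rw [h2, mul_inv_cancel_right]
      have h4 : lift (h ≫ i) z₂ ≫ aX.act = z₁ := by
        have := congrArg (fun t => lift g₁⁻¹ t ≫ aX.act) e2
        simp only [← AlgGrp.Action.lift_mul_act, inv_mul_cancel, AlgGrp.Action.lift_one_act, h2,
          inv_mul_cancel_left] at this
        exact this.symm
      refine ⟨lift h c.snd, ⟨?_, lift_snd _ _⟩, fun m hm₁ hm₂ => ?_⟩
      · rw [hdec c.snd, htw]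
        exact (congrArg₂ lift h3 h4).trans (hdec c.fst).symm
      · have hm : m = lift (m ≫ fst H _) c.snd := by rw [← hm₂]; exact hdec m
        rw [hm, hdec c.snd, htw] at hm₁
        have h5 : g₂ * ((m ≫ fst H _) ≫ i)⁻¹ = g₁ := by simpa [g₁] using congrArg (· ≫ fst G X) hm₁
        have h6 : lift g₁ (m ≫ fst H _) = lift g₁ h := hpb.hom_ext (by simp) (by
          rw [hl, hl, ← h2, ← h5, inv_mul_cancel_right])
        rw [hm, show m ≫ fst H _ = h from by simpa using congrArg (· ≫ snd G H) h6]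
    choose l hl' hu using key
    exact PullbackCone.IsLimit.mk _ l (fun c => (hl' c).1) (fun c => (hl' c).2) fun c m h₁ h₂ => hu c m h₁ h₂
  · obtain ⟨R, hR, hR'⟩ := hloc
    refine ⟨R.pullbackArrows (fst Q X).left, Precoverage.pullbackArrows_mem _ hR, ?_⟩
    rintro W _ ⟨U, f, hf⟩
    obtain ⟨sc, hsc⟩ := hR' f hf
    have hsc' : sc ≫ o.left = f := hsc
    let W' : Over S := Over.mk (pullback.snd f (fst Q X).left ≫ (Q ⊗ X).hom)
    let w : W' ⟶ Q ⊗ X := Over.homMk (pullback.snd f (fst Q X).left) rfl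
    let g : W' ⟶ G := Over.homMk (pullback.fst f (fst Q X).left ≫ sc) (by
      show (_ ≫ sc) ≫ G.hom = _ ≫ (Q ⊗ X).hom
      rw [← Over.w o, Category.assoc, ← Category.assoc sc, hsc', ← Category.assoc, pullback.condition,
        Category.assoc, Over.w])
    let z : W' ⟶ X := lift g⁻¹ (w ≫ snd Q X) ≫ aX.act
    refine ⟨(lift g z).left, ?_⟩
    show (lift g z).left ≫ j.left = w.left
    rw [← Over.comp_left, hj, ← AlgGrp.Action.lift_mul_act, mul_inv_cancel, AlgGrp.Action.lift_one_act]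
    have hg : g ≫ o = w ≫ fst Q X := Over.OverMorphism.ext (by
      show (pullback.fst f (fst Q X).left ≫ sc) ≫ o.left = _ ≫ (fst Q X).left
      rw [Category.assoc, hsc', pullback.condition]; rfl)
    rw [hg, ← hdec]

end Groth.Agent.Ext49
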