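import Groth.Agent.Ext49.SubStack
import Groth.Agent.GerbLib.Twist
import Groth.Agent.AlgStLib.Faithful
import Groth.Agent.AlgStLib.Yoneda
import Groth.Agent.ArtinBoot49.AtlasBG

/-!
# The stabilizer classifying stack maps monomorphically
-/

set_option autoImplicit false
set_option backward.isDefEq.respectTransparency false
set_option backward.isDefEq.respectTransparency.types false
set_option linter.unusedVariables false

universe u

open CategoryTheory CategoryTheory.Functor CategoryTheory.Limits MonoidalCategory CartesianMonoidalCategory MonObj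
  GrpObj AlgebraicGeometry Groth.Agent.FibBase Groth.Agent.AlgStLib Groth.Agent.QuotLib Groth.Agent.GerbLib

namespace Groth.Agent.Ext49

open Groth.Agent

theorem exists_isMono_BG
    (S : Scheme.{u}) (𝒳 : AlgSt.Cat S) (h𝒳 : AlgSt.IsAlgStack Scheme.fppfPrecoverage 𝒳)
    (x : FibCat.overCat (Over.mk (𝟙 S)) ⥤ᵇ 𝒳)
    (G : Over S) [GrpObj G] [IsAffineHom G.hom] [Flat G.hom] [LocallyOfFinitePresentation G.hom]
    (r : Gerb.AutRep x (Gerb.ptsGrp (Over.mk (𝟙 S)) G)) :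
    ∃ incl : AlgSt.BG Scheme.fppfPrecoverage G ⥤ᵇ 𝒳,
      AlgSt.IsMono incl ∧
      Nonempty (BasedFunctor.comp (AlgSt.quotMap Scheme.fppfPrecoverage G (AlgSt.trivAction G)) incl ≅
        BasedFunctor.comp (AlgSt.toOverCat (Over.mk (𝟙 S))) x) := by
  let T₀ : Over S := Over.mk (𝟙 S)
  let x' : FibCat.overCat (𝟙_ (Over S)) ⥤ᵇ 𝒳 := x
  let q : ∀ T : Over S, Over T₀ := fun T => Over.mk (toUnit T : T ⟶ T₀)
  let c : ∀ T : Over S, (Over.iteratedSliceForward T₀).obj (q T) ≅ T := fun T =>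
    Over.isoMk (Iso.refl T.left) (by
      show 𝟙 T.left ≫ T.hom = (q T).hom.left
      exact (Category.id_comp _).trans ((Over.w (q T).hom).symm.trans (Category.comp_id _)))
  let E : ∀ T : Over S, (T ⟶ G) ≃* Gerb.AutO (Ext49.pt x' T) := fun T =>
    MulEquiv.trans
      { toFun := fun g => (c T).hom ≫ g
        invFun := fun g => (c T).inv ≫ g
        left_inv := fun g => (c T).inv_hom_id_assoc g
        right_inv := fun g => (c T).hom_inv_id_assoc g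
        map_mul' := fun g g' => MonObj.comp_mul _ _ _ } (r.iso (q T))
  have hE : ∀ {T T' : Over S} (f : T ⟶ T') (g : T' ⟶ G),
      (E T (f ≫ g)).hom.1 ≫ Ext49.ptMap x' f = Ext49.ptMap x' f ≫ (E T' g).hom.1 := by
    intro T T' f g
    let h : q T ⟶ q T' := Over.homMk f (toUnit_unique _ _)
    have hn := r.natural h ((c T').hom ≫ g)
    have he : (Gerb.ptsGrp T₀ G).map h.op ((c T').hom ≫ g) = ((c T).hom ≫ f ≫ g :) := by
      show (Over.iteratedSliceForward T₀).map h ≫ (c T').hom ≫ g = (c T).hom ≫ f ≫ g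
      rw [← Category.assoc, ← Category.assoc]
      congr 1
      skip
    rw [he] at hn
    exact hn
  -- the substack of objects locally isomorphic to the point
  have hg := h𝒳.isStack.1
  let Q : 𝒳.obj → Prop := fun y => ∃ R ∈ AlgSp.J S (𝒳.p.obj y), ∀ ⦃V : Over S⦄ (f : V ⟶ 𝒳.p.obj y), R f →
    ∃ (w : 𝒳.obj) (a : w ⟶ y), 𝒳.p.IsHomLift f a ∧ Ext49.Near x' w
  have hQnear : ∀ {w : 𝒳.obj}, Ext49.Near x' w → Q w := fun {w} hw =>
    ⟨⊤, (AlgSp.J S).top_mem _, fun V f _ => by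
      obtain ⟨w', m, hm⟩ := FibBase.exists_lift_of_eq hg (rfl : 𝒳.p.obj w = _) f
      exact ⟨w', m, hm, hw.map fun c => m ≫ c⟩⟩
  have hQ : ∀ ⦃y z : 𝒳.obj⦄, (y ⟶ z) → Q z → Q y := fun y z b ⟨R, hR, hR'⟩ => by
    refine ⟨R.pullback (𝒳.p.map b), (AlgSp.J S).pullback_stable _ hR, fun V f hf => ?_⟩
    obtain ⟨w, a, ha, hw⟩ := hR' (f ≫ 𝒳.p.map b) hf
    obtain ⟨j, hj, hj'⟩ := exists_factor hg b a (eqToHom (IsHomLift.domain_eq 𝒳.p (f ≫ 𝒳.p.map b) a) ≫ f) (by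
      rw [IsHomLift.fac' 𝒳.p (f ≫ 𝒳.p.map b) a]; simp)
    exact ⟨w, j, IsHomLift.of_fac' _ f j (IsHomLift.domain_eq 𝒳.p (f ≫ 𝒳.p.map b) a) rfl (by simpa using hj), hw⟩
  have hloc : ∀ y : 𝒳.obj, (∃ R ∈ AlgSp.J S (𝒳.p.obj y), ∀ ⦃V : Over S⦄ (f : V ⟶ 𝒳.p.obj y), R f →
      ∃ (w : 𝒳.obj) (a : w ⟶ y), 𝒳.p.IsHomLift f a ∧ Q w) → Q y := fun y ⟨R, hR, hR'⟩ => by
    let R₁ : Sieve (𝒳.p.obj y) :=
      { arrows := fun V f => ∃ (w : 𝒳.obj) (a : w ⟶ y), 𝒳.p.IsHomLift f a ∧ Ext49.Near x' w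
        downward_closed := by
          rintro V W f ⟨w, a, ha, ⟨hw⟩⟩ k
          obtain ⟨w', m, hm⟩ := FibBase.exists_lift_of_eq hg (IsHomLift.domain_eq 𝒳.p f a) k
          exact ⟨w', m ≫ a, inferInstance, ⟨m ≫ hw⟩⟩ }
    refine ⟨R₁, (AlgSp.J S).transitive hR _ fun V f hf => ?_, fun V f hf => hf⟩
    obtain ⟨w, a, ha, R', hRm, hR''⟩ := hR' f hf
    have hdom := IsHomLift.domain_eq 𝒳.p f a
    refine (AlgSp.J S).superset_covering ?_ ((AlgSp.J S).pullback_stable (eqToHom hdom.symm) hRm)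
    intro W k hk
    obtain ⟨w', b, hb, hw'⟩ := hR'' (k ≫ eqToHom hdom.symm) hk
    refine ⟨w', b ≫ a, ?_, hw'⟩
    refine IsHomLift.of_fac' _ (k ≫ f) (b ≫ a) (IsHomLift.domain_eq 𝒳.p (k ≫ eqToHom hdom.symm) b) rfl ?_
    rw [Functor.map_comp, IsHomLift.fac' 𝒳.p (k ≫ eqToHom hdom.symm) b, IsHomLift.fac' 𝒳.p f a]
    simp
  have hst : Stk.IsStack (AlgSp.J S) (AlgSt.fullSub 𝒳 Q) := Ext49.isStack_fullSub_of_local h𝒳.isStack hQ hloc
  have hxQ : ∀ a : Over (𝟙_ (Over S)), Q (x'.obj a) := fun a =>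
    hQnear ⟨x'.map (Over.homMk a.hom (toUnit_unique _ _) : a ⟶ Over.mk (toUnit (𝟙_ (Over S))))⟩
  let x'' : FibCat.overCat (𝟙_ (Over S)) ⥤ᵇ AlgSt.fullSub 𝒳 Q :=
    { toFunctor := ObjectProperty.lift Q x'.toFunctor hxQ
      w := x'.w }
  let E' : ∀ T : Over S, (T ⟶ G) ≃* Gerb.AutO (Ext49.pt x'' T) := fun T => (E T).trans
    { toFun := fun a => GerbLib.autOMk hst.1 (ObjectProperty.homMk a.hom.1) (GerbLib.autO_map _ a)
      invFun := fun a => GerbLib.autOMk hg a.hom.1.hom (GerbLib.autO_map (𝒳 := AlgSt.fullSub 𝒳 Q) _ a)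
      left_inv := fun a => Aut.ext (Functor.Fiber.hom_ext rfl)
      right_inv := fun a => Aut.ext (Functor.Fiber.hom_ext rfl)
      map_mul' := fun a b => Aut.ext (Functor.Fiber.hom_ext rfl) }
  have hE' : ∀ {T T' : Over S} (f : T ⟶ T') (g : T' ⟶ G),
      (E' T (f ≫ g)).hom.1 ≫ Ext49.ptMap x'' f = Ext49.ptMap x'' f ≫ (E' T' g).hom.1 :=
    fun f g => ObjectProperty.hom_ext _ (hE f g)
  have hcov : Ext49.Dense (AlgSp.J S) (Ext49.Near x'') := fun y => by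
    obtain ⟨R, hR, hR'⟩ := y.property
    refine ⟨R, hR, fun V f hf => ?_⟩
    obtain ⟨w, a, ha, ⟨c⟩⟩ := hR' f hf
    exact ⟨⟨w, hQnear ⟨c⟩⟩, ObjectProperty.homMk a, (isHomLift_fullSub_iff f _).2 ha, ⟨ObjectProperty.homMk c⟩⟩
  obtain ⟨φ, hφ, ⟨θ⟩⟩ := Ext49.exists_equiv_BG (G := G) x'' hst E' hE' hcov
  obtain ⟨g, hge, ⟨k₁⟩, -⟩ := isEquivOver_inv hφ
  have : g.toFunctor.Full := full_of_isEquivOver hge
  have : g.toFunctor.Faithful := faithful_of_isEquivOver hge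
  let incl : AlgSt.BG Scheme.fppfPrecoverage G ⥤ᵇ 𝒳 := BasedFunctor.comp g (AlgSt.subIncl 𝒳 Q)
  have : (AlgSt.subIncl 𝒳 Q).toFunctor.Full := inferInstanceAs (ObjectProperty.ι Q).Full
  have : (AlgSt.subIncl 𝒳 Q).toFunctor.Faithful := inferInstanceAs (ObjectProperty.ι Q).Faithful
  have : incl.toFunctor.Full := inferInstanceAs (g.toFunctor ⋙ (AlgSt.subIncl 𝒳 Q).toFunctor).Full
  have : incl.toFunctor.Faithful := inferInstanceAs (g.toFunctor ⋙ (AlgSt.subIncl 𝒳 Q).toFunctor).Faithful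
  have hBG : AlgSt.IsAlgStack Scheme.fppfPrecoverage (AlgSt.BG Scheme.fppfPrecoverage G) := ArtinBoot49.isAlgStack_BG
  refine ⟨incl, AlgStLib.isMono_of_full_faithful hBG h𝒳 incl, ?_⟩
  let F₁ : FibCat.overCat T₀ ⥤ᵇ 𝒳 := BasedFunctor.comp
    (BasedFunctor.comp (AlgSt.ofOverCat T₀)
      (AlgSt.quotMap Scheme.fppfPrecoverage G (AlgSt.trivAction G))) incl
  let t : F₁.obj (Over.mk (𝟙 T₀)) ⟶ x.obj (Over.mk (𝟙 T₀)) :=
    (AlgSt.subIncl 𝒳 Q).map (g.map θ.inv ≫ (isoApp k₁ _).hom)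
  have ht : 𝒳.p.IsHomLift (𝟙 T₀) t := IsHomLift.of_fac' _ _ t (F₁.w_obj _) (x.w_obj _) (by
    rw [← cancel_mono (eqToHom (x.w_obj (Over.mk (𝟙 T₀))))]
    exact toUnit_unique _ _)
  obtain ⟨i⟩ := AlgStLib.exists_iso_of_eval hg F₁ x t ht
  exact ⟨whiskerLeftIso (AlgSt.toOverCat T₀) i⟩

end Groth.Agent.Ext49
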