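import Groth.Agent.Ext49.BGEquiv
import Groth.Agent.AlgStLib.Substack
import Groth.Agent.StkLib.Basic

/-!
# Substacks cut out by a local property
-/

set_option autoImplicit false
set_option backward.isDefEq.respectTransparency false
set_option backward.isDefEq.respectTransparency.types false
set_option linter.unusedVariables false

universe u

open CategoryTheory CategoryTheory.Functor AlgebraicGeometry Groth.Agent.FibBase Groth.Agent.AlgStLib

namespace Groth.Agent.Ext49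

variable {S : Scheme.{u}} {𝒳 : AlgSt.Cat S} {Q : 𝒳.obj → Prop}

/-- A full subcategory cut out by a local property is a stack. -/
theorem isStack_fullSub_of_local {J : GrothendieckTopology (Over S)} (hX : Stk.IsStack J 𝒳)
    (hQ : ∀ ⦃y x : 𝒳.obj⦄, (y ⟶ x) → Q x → Q y)
    (hloc : ∀ y : 𝒳.obj, (∃ R ∈ J (𝒳.p.obj y), ∀ ⦃V : Over S⦄ (f : V ⟶ 𝒳.p.obj y), R f →
      ∃ (w : 𝒳.obj) (a : w ⟶ y), 𝒳.p.IsHomLift f a ∧ Q w) → Q y) :
    Stk.IsStack J (AlgSt.fullSub 𝒳 Q) := by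
  let ι := AlgSt.subIncl 𝒳 Q
  have : ι.toFunctor.Full := inferInstanceAs (ObjectProperty.ι Q).Full
  have : ι.toFunctor.Faithful := inferInstanceAs (ObjectProperty.ι Q).Faithful
  refine ⟨AlgStLib.isFibGrpd_fullSub hX.1 hQ, fun U R hR => ?_⟩
  have hX' : (Stk.resSieve R 𝒳).IsEquivalence := hX.2 R hR
  have hp : Stk.IsPrestackFor R (AlgSt.fullSub 𝒳 Q) :=
    StkLib.isPrestackFor_of_fullyFaithful ι ⟨inferInstance, inferInstance⟩
  obtain ⟨_, _⟩ := hp
  refine { essSurj := ⟨fun F => ?_⟩ }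
  let G := (Stk.resSieve R 𝒳).objPreimage (BasedFunctor.comp F ι)
  let η : BasedFunctor.comp (Stk.sieveIncl R) G ≅ BasedFunctor.comp F ι :=
    (Stk.resSieve R 𝒳).objObjPreimageIso _
  have h1 : ∀ a : (Stk.sieveCat R).obj, Q (G.obj a.obj) := fun a =>
    hQ (isoApp η a).hom (F.obj a).property
  have hid : Q (G.obj (Over.mk (𝟙 U))) := by
    refine hloc _ ⟨R.pullback (eqToHom (G.w_obj (Over.mk (𝟙 U)))), J.pullback_stable _ hR, fun V f hf => ?_⟩
    let f' : V ⟶ U := f ≫ eqToHom (G.w_obj (Over.mk (𝟙 U)))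
    let m : Over.mk f' ⟶ Over.mk (𝟙 U) := Over.homMk f' (Category.comp_id _)
    refine ⟨G.obj (Over.mk f'), G.map m, ?_, h1 ⟨Over.mk f', hf⟩⟩
    refine IsHomLift.of_fac' _ f (G.map m) (G.w_obj _) rfl ?_
    rw [StkLib.w_map G m]
    show eqToHom _ ≫ f' ≫ eqToHom _ = eqToHom _ ≫ f ≫ eqToHom _
    simp [f']
  have hall : ∀ b : Over U, Q (G.obj b) := fun b =>
    hQ (G.map (Over.homMk b.hom : b ⟶ Over.mk (𝟙 U))) hid
  let G' : FibCat.overCat U ⥤ᵇ AlgSt.fullSub 𝒳 Q :=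
    { toFunctor := ObjectProperty.lift Q G.toFunctor hall
      w := G.w }
  have := StkLib.post_full (𝒜 := Stk.sieveCat R) ι
  have := StkLib.post_faithful (𝒜 := Stk.sieveCat R) ι
  exact ⟨G', ⟨(StkLib.post (𝒜 := Stk.sieveCat R) ι).preimageIso (show (StkLib.post ι).obj _ ≅ (StkLib.post ι).obj _ from η)⟩⟩

end Groth.Agent.Ext49
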